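import Groth.Agent.FormalAlg.Levels
import Groth.Agent.FlatMorOne.FlatnessCriteria
import Mathlib

/-!
# Finite morphisms etale on all thickenings of the closed fibre
-/

universe u

open CategoryTheory CategoryTheory.Limits AlgebraicGeometry Opposite TopologicalSpace TensorProduct

set_option autoImplicit false
set_option backward.isDefEq.respectTransparency false
set_option linter.style.haveILetI false

noncomputable section

namespace Groth.FormalAlg

attribute [local instance] Algebra.TensorProduct.rightAlgebra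

set_option maxHeartbeats 800000 in
/-- A finite algebra etale modulo all powers of `J` is etale near every prime containing `J`. -/
theorem exists_etale_away {R S : Type u} [CommRing R] [CommRing S] [IsNoetherianRing R] [Algebra R S]
    [Module.Finite R S] (J : Ideal R)
    (h : ∀ n : ℕ, 0 < n → Algebra.Etale (R ⧸ J ^ n) ((R ⧸ J ^ n) ⊗[R] S))
    (p : PrimeSpectrum R) (hp : J ≤ p.asIdeal) :
    ∃ g : R, g ∉ p.asIdeal ∧ Algebra.Etale (Localization.Away g) (Localization.Away g ⊗[R] S) := by
  haveI : IsNoetherianRing S := isNoetherian_of_tower R (inferInstance : IsNoetherian R S)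
  haveI : Module.FinitePresentation R S := Module.finitePresentation_of_finite R S
  -- flatness
  have hfree : p ∈ Module.freeLocus R S := by
    have hflatq : ∀ (q : Ideal S) [q.IsPrime], J.map (algebraMap R S) ≤ q →
        Module.Flat R (LocalizedModule q.primeCompl S) := fun q _ hq =>
      FlatMorOne.flat_localizedModule_of_forall_pow J (fun n hn => by
        haveI := h n hn; infer_instance) q hq
    have hflat : Module.Flat R (LocalizedModule p.asIdeal.primeCompl S) := by
      refine Groth.FlatMorOne.flat_localizedModule_of_forall_pow (S := R) J (fun n hn => ?_) p.asIdeal ?_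
      · haveI := h n hn; infer_instance
      · rwa [Algebra.algebraMap_self, Ideal.map_id]
    rw [Module.mem_freeLocus]
    haveI : Module.Flat (Localization.AtPrime p.asIdeal) (LocalizedModule p.asIdeal.primeCompl S) :=
      (Module.flat_iff_of_isLocalization (Localization.AtPrime p.asIdeal) p.asIdeal.primeCompl _).2 hflat
    exact Module.free_of_flat_of_isLocalRing
  obtain ⟨_, ⟨_, ⟨g, rfl⟩, rfl⟩, hpg, hg⟩ :=
    PrimeSpectrum.isBasis_basic_opens.exists_subset_of_mem_open hfree Module.isOpen_freeLocus
  -- differentials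
  haveI : Module.Finite R Ω[S⁄R] := Module.Finite.trans S _
  obtain ⟨r, hr, hr0⟩ := Submodule.exists_sub_one_mem_and_smul_eq_zero_of_fg_of_le_smul
    J (⊤ : Submodule R Ω[S⁄R]) Module.Finite.fg_top (by
      haveI := h 1 Nat.one_pos
      haveI : Subsingleton ((R ⧸ J ^ 1) ⊗[R] Ω[S⁄R]) :=
        (KaehlerDifferential.tensorKaehlerEquivBase R (R ⧸ J ^ 1) S ((R ⧸ J ^ 1) ⊗[R] S)).toEquiv.subsingleton
      haveI : Subsingleton (Ω[S⁄R] ⧸ (J ^ 1 • (⊤ : Submodule R Ω[S⁄R]))) :=
        (TensorProduct.quotTensorEquivQuotSMul Ω[S⁄R] (J ^ 1)).symm.toEquiv.subsingleton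
      intro ω _
      have := (Submodule.Quotient.mk_eq_zero (J ^ 1 • (⊤ : Submodule R Ω[S⁄R]))).1
        (Subsingleton.elim (Submodule.Quotient.mk ω) 0)
      rwa [pow_one] at this)
  have hpr : r ∉ p.asIdeal := fun hrp => p.isPrime.ne_top <| (Ideal.eq_top_iff_one _).2 (by
    have := p.asIdeal.sub_mem hrp (hp hr)
    rwa [sub_sub_cancel] at this)
  refine ⟨g * r, fun hgr => (p.isPrime.mem_or_mem hgr).elim hpg hpr, ?_⟩
  have hsub : (PrimeSpectrum.basicOpen (g * r) : Set (PrimeSpectrum R)) ⊆ Module.freeLocus R S :=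
    Set.Subset.trans (PrimeSpectrum.basicOpen_mul_le_left g r) hg
  haveI hproj := Module.basicOpen_subset_freeLocus_iff.1 hsub
  haveI : Module.Flat (Localization.Away (g * r)) (Localization.Away (g * r) ⊗[R] S) := by
    haveI : Module.Flat (Localization.Away (g * r)) (LocalizedModule.Away (g * r) S) :=
      Module.Flat.of_projective
    exact Module.Flat.of_linearEquiv (LocalizedModule.equivTensorProduct (Submonoid.powers (g * r)) S).symm
  haveI : Algebra.FormallyUnramified (Localization.Away (g * r)) (Localization.Away (g * r) ⊗[R] S) := by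
    refine ⟨?_⟩
    haveI : Subsingleton (Localization.Away (g * r) ⊗[R] Ω[S⁄R]) := by
      have hu : IsUnit (algebraMap R (Localization.Away (g * r)) r) :=
        isUnit_of_mul_isUnit_right (x := algebraMap R _ g)
          (by rw [← map_mul]; exact IsLocalization.Away.algebraMap_isUnit (g * r))
      obtain ⟨v, hv⟩ := hu.exists_left_inv
      refine subsingleton_of_forall_eq 0 fun z => ?_
      induction z using TensorProduct.induction_on with
      | zero => rfl
      | add a b ha hb => rw [ha, hb, add_zero]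
      | tmul a ω =>
        have : a = r • (v * a) := by
          rw [Algebra.smul_def, ← mul_assoc, mul_comm (algebraMap R _ r), hv, one_mul]
        rw [this, smul_tmul, hr0 ω trivial, tmul_zero]
    exact (KaehlerDifferential.tensorKaehlerEquivBase R (Localization.Away (g * r)) S
      (Localization.Away (g * r) ⊗[R] S)).symm.toEquiv.subsingleton
  haveI : Algebra.FinitePresentation R S := Algebra.FinitePresentation.of_finiteType.1 inferInstance
  exact Algebra.Etale.of_formallyUnramified_of_flat

variable {X W : Scheme.{u}}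

/-- Etaleness of the base change of a finite morphism to an affine scheme over an affine open. -/
theorem etale_pullback_snd_iff (i : W ⟶ X) [IsAffineHom i] {U : X.Opens} (hU : IsAffineOpen U)
    (B : Type u) [CommRing B] [Algebra Γ(X, U) B] :
    letI := (i.app U).hom.toAlgebra
    Etale (pullback.snd i (Spec.map (CommRingCat.ofHom (algebraMap Γ(X, U) B)) ≫ hU.fromSpec)) ↔
      Algebra.Etale B (B ⊗[Γ(X, U)] Γ(W, i ⁻¹ᵁ U)) := by
  letI := (i.app U).hom.toAlgebra
  have hV := hU.preimage i
  have h1 : IsPullback (Spec.map (i.app U)) hV.fromSpec hU.fromSpec i :=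
    IsOpenImmersion.isPullback _ _ _ _
      (by rw [Scheme.Hom.app_eq_appLE]; exact (hU.SpecMap_appLE_fromSpec i hV le_rfl).symm)
      (by
        rw [hV.opensRange_fromSpec, hU.opensRange_fromSpec])
  have h2 := (isPullback_SpecMap_of_isPushout _ _ _ _
    (CommRingCat.isPushout_tensorProduct Γ(X, U) B Γ(W, i ⁻¹ᵁ U)))
  have h3 := h2.flip.paste_horiz h1.flip
  rw [show pullback.snd i (Spec.map (CommRingCat.ofHom (algebraMap Γ(X, U) B)) ≫ hU.fromSpec) =
    h3.isoPullback.inv ≫ _ from h3.isoPullback_inv_snd.symm, MorphismProperty.cancel_left_of_respectsIso @Etale,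
    HasRingHomProperty.Spec_iff (P := @Etale)]
  exact RingHom.etale_algebraMap

variable {A : Type u} [CommRing A] {I : Ideal A}

set_option maxHeartbeats 800000 in
/-- A finite morphism which is etale on all thickenings of the closed fibre is etale, when the target is
proper over a complete Noetherian base. -/
theorem etale_of_levels [IsNoetherianRing A] [IsAdicComplete I A] (f : X ⟶ Spec (CommRingCat.of A))
    [IsProper f] (i : W ⟶ X) [IsFinite i] {Y : ℕ → Scheme.{u}} (y : ∀ n, Y n ⟶ CohB1.thick f I n)
    (w : ∀ n, Y n ⟶ W) (hpb : ∀ n, IsPullback (w n) (y n) i (CohB1.thickι f I n))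
    (hy : ∀ n, Etale (y n)) : Etale i := by
  haveI : IsLocallyNoetherian X := LocallyOfFiniteType.isLocallyNoetherian f
  let G : Set X.Opens := {D | Etale (i ∣_ D)}
  have hG : ∀ x : X, I ≤ (f.base x).asIdeal → x ∈ sSup G := by
    intro x hx
    obtain ⟨_, ⟨U, hU, rfl⟩, hxU, -⟩ :=
      X.isBasis_affineOpens.exists_subset_of_mem_open (Set.mem_univ x) isOpen_univ
    haveI : IsNoetherianRing Γ(X, U) := IsLocallyNoetherian.component_noetherian ⟨U, hU⟩
    letI := (i.app U).hom.toAlgebra
    haveI : Module.Finite Γ(X, U) Γ(W, i ⁻¹ᵁ U) := IsFinite.finite_app i U hU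
    obtain ⟨P, hP⟩ : x ∈ Set.range hU.fromSpec.base := by rw [hU.range_fromSpec]; exact hxU
    have hlev : ∀ n : ℕ, 0 < n → Algebra.Etale (Γ(X, U) ⧸ (I.map (baseHom f U)) ^ n)
        ((Γ(X, U) ⧸ (I.map (baseHom f U)) ^ n) ⊗[Γ(X, U)] Γ(W, i ⁻¹ᵁ U)) := by
      intro n hn
      obtain ⟨m, rfl⟩ : ∃ m, n = m + 1 := ⟨n - 1, by omega⟩
      refine (etale_pullback_snd_iff i hU _).1 ?_
      let K := (I.map (baseHom f U)) ^ (m + 1)
      let χ : A ⧸ I ^ (m + 1) →+* Γ(X, U) ⧸ K :=
        Ideal.quotientMap K (baseHom f U) (Ideal.map_le_iff_le_comap.1 (le_of_eq (Ideal.map_pow _ _ _)))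
      let g : Spec (CommRingCat.of (Γ(X, U) ⧸ K)) ⟶ CohB1.thick f I m :=
        pullback.lift (Spec.map (CommRingCat.ofHom (algebraMap Γ(X, U) (Γ(X, U) ⧸ K))) ≫ hU.fromSpec)
          (Spec.map (CommRingCat.ofHom χ)) (by
            rw [Category.assoc, fromSpec_comp, CohB1.specQuot, ← Spec.map_comp, ← Spec.map_comp]
            rfl)
      have hg : g ≫ CohB1.thickι f I m =
          Spec.map (CommRingCat.ofHom (algebraMap Γ(X, U) (Γ(X, U) ⧸ K))) ≫ hU.fromSpec := pullback.lift_fst _ _ _
      have h := (IsPullback.of_hasPullback (y m) g).paste_horiz (hpb m)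
      rw [← hg, show pullback.snd i (g ≫ CohB1.thickι f I m) =
        h.isoPullback.inv ≫ pullback.snd (y m) g from h.isoPullback_inv_snd.symm,
        MorphismProperty.cancel_left_of_respectsIso @Etale]
      haveI := hy m
      infer_instance
    have hPI : I.map (baseHom f U) ≤ P.asIdeal := by
      refine Ideal.map_le_iff_le_comap.2 fun a ha => ?_
      have h1 : f.base (hU.fromSpec.base P) = f.base x := by rw [hP]
      rw [← Scheme.Hom.comp_apply, fromSpec_comp] at h1
      exact (congrArg PrimeSpectrum.asIdeal h1).ge (hx ha)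
    obtain ⟨g, hg, hgEt⟩ := exists_etale_away (I.map (baseHom f U)) hlev P hPI
    let γ := Spec.map (CommRingCat.ofHom (algebraMap Γ(X, U) (Localization.Away g))) ≫ hU.fromSpec
    haveI : IsOpenImmersion (Spec.map (CommRingCat.ofHom (algebraMap Γ(X, U) (Localization.Away g)))) :=
      IsOpenImmersion.of_isLocalization g
    refine TopologicalSpace.Opens.mem_sSup.2 ⟨γ.opensRange, ?_, ?_⟩
    · show Etale (i ∣_ γ.opensRange)
      rw [MorphismProperty.arrow_mk_iso_iff @Etale (morphismRestrictOpensRange i γ)]
      exact (etale_pullback_snd_iff i hU _).2 hgEt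
    · obtain ⟨Q, hQ⟩ : P ∈ Set.range (PrimeSpectrum.comap (algebraMap Γ(X, U) (Localization.Away g))) := by
        rw [PrimeSpectrum.localization_away_comap_range _ g]; exact hg
      refine ⟨Q, ?_⟩
      show γ.base Q = x
      rw [← hP, ← hQ]
      rfl
  have htop : iSup (fun D : G => (D.1 : X.Opens)) = ⊤ := by
    rw [← sSup_eq_iSup']
    exact opens_eq_top_of_closedFibre f _ hG
  exact (IsZariskiLocalAtTarget.iff_of_iSup_eq_top (P := @Etale) _ htop).2 fun D => D.2

end Groth.FormalAlg
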