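import Groth.Agent.FormalAlg.Finite
import Groth.Agent.FormalAlg.EtaleNbhd
import Groth.Agent.Pi1FEt.Colimits
import Groth.Agent.Pi1Inv.Thickening
import Groth.Agent.Pi1PBC.Approx
import Mathlib

/-!
# Finite etale covers over a complete base extend from the closed fibre
-/

universe u

open CategoryTheory CategoryTheory.Limits AlgebraicGeometry Opposite TopologicalSpace

set_option autoImplicit false
set_option backward.isDefEq.respectTransparency false
set_option linter.style.haveILetI false

noncomputable section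

namespace Groth.FormalAlg

/-- A cartesian square of covers gives an isomorphism with the restriction. -/
def isoRestrict {X Y : Scheme.{u}} {g : X ⟶ Y} {V : FEt.Cat X} {U : FEt.Cat Y} (w : V.left ⟶ U.left)
    (h : IsPullback w V.hom U.hom g) : V ≅ (FEt.restrict g).obj U :=
  MorphismProperty.Over.isoMk h.isoPullback (h.isoPullback_hom_snd)

/-- Restriction gives cartesian squares. -/
theorem isPullback_of_iso_restrict {X Y : Scheme.{u}} {g : X ⟶ Y} {V : FEt.Cat X} {U : FEt.Cat Y}
    (e : V ≅ (FEt.restrict g).obj U) :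
    IsPullback (e.hom.left ≫ pullback.fst U.hom g) V.hom U.hom g := by
  let el : V.left ≅ pullback U.hom g :=
    (MorphismProperty.Over.forget FEt.prop ⊤ X ⋙ Over.forget X).mapIso e
  refine IsPullback.of_iso_pullback ⟨?_⟩ el rfl (Over.w e.hom.hom)
  rw [Category.assoc, pullback.condition, ← Category.assoc]
  exact congrArg (· ≫ g) (Over.w e.hom.hom)

variable (A : Type u) [CommRing A] [IsNoetherianRing A] (I : Ideal A) [IsAdicComplete I A]
  {X : Scheme.{u}} (f : X ⟶ Spec (CommRingCat.of A)) [IsProper f]

set_option maxHeartbeats 800000 in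
/-- Finite etale covers of the closed fibre of a proper scheme over a complete Noetherian ring extend. -/
theorem essSurj_restrict_complete :
    (FEt.restrict (pullback.fst f (Spec.map (CommRingCat.ofHom (Ideal.Quotient.mk I))))).EssSurj := by
  refine ⟨fun V₀ => ?_⟩
  let Z := pullback f (Spec.map (CommRingCat.ofHom (Ideal.Quotient.mk I)))
  let z : Z ⟶ X := pullback.fst f (Spec.map (CommRingCat.ofHom (Ideal.Quotient.mk I)))
  haveI : IsClosedImmersion (Spec.map (CommRingCat.ofHom (Ideal.Quotient.mk I))) :=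
    IsClosedImmersion.spec_of_surjective _ Ideal.Quotient.mk_surjective
  haveI : IsClosedImmersion z := MorphismProperty.pullback_fst _ _ inferInstance
  let c : ∀ n, Z ⟶ CohB1.thick f I n := fun n => pullback.lift z
    (pullback.snd _ _ ≫ Spec.map (CommRingCat.ofHom (Ideal.Quotient.factor (Ideal.pow_le_self (Nat.succ_ne_zero n)))))
    (by
      rw [Category.assoc, CohB1.specQuot, ← Spec.map_comp]
      exact pullback.condition)
  have hc : ∀ n, c n ≫ CohB1.thickι f I n = z := fun n => pullback.lift_fst _ _ _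
  haveI : ∀ n, IsClosedImmersion (c n) := fun n => by
    haveI : IsClosedImmersion (c n ≫ CohB1.thickι f I n) := by rw [hc]; infer_instance
    exact IsClosedImmersion.of_comp (c n) (CohB1.thickι f I n)
  haveI : ∀ n, Surjective (c n) := fun n => ⟨fun y => by
    have hy : I ≤ (f.base ((CohB1.thickι f I n).base y)).asIdeal := (mem_range_thickι f n _).1 ⟨y, rfl⟩
    obtain ⟨x, hx⟩ : (CohB1.thickι f I n).base y ∈ Set.range z.base := by
      rw [show Set.range z.base = f.base ⁻¹' Set.range (Spec.map (CommRingCat.ofHom (Ideal.Quotient.mk I))).base from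
        Scheme.Pullback.range_fst _ _]
      show f.base ((CohB1.thickι f I n).base y) ∈ Set.range (PrimeSpectrum.comap (Ideal.Quotient.mk I))
      rw [range_comap_of_surjective _ _ Ideal.Quotient.mk_surjective, Ideal.mk_ker, PrimeSpectrum.mem_zeroLocus]
      exact hy
    exact ⟨x, (CohB1.thickι f I n).isClosedEmbedding.injective (by
      rw [← Scheme.Hom.comp_apply, hc, hx])⟩⟩
  have hct : ∀ n, c n ≫ CohB1.thickTrans f I n = c (n + 1) := fun n => by
    haveI : Mono (CohB1.thickι f I (n + 1)) := inferInstance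
    rw [← cancel_mono (CohB1.thickι f I (n + 1)), Category.assoc, thickTrans_ι, hc, hc]
  haveI : ∀ n, (FEt.restrict (c n)).IsEquivalence := fun n => Groth.Pi1Inv.isEquivalence_of_thickening (c n)
  -- the tower of covers
  let Y : ∀ n, FEt.Cat (CohB1.thick f I n) := fun n => (FEt.restrict (c n)).objPreimage V₀
  let eY : ∀ n, (FEt.restrict (c n)).obj (Y n) ≅ V₀ := fun n => (FEt.restrict (c n)).objObjPreimageIso V₀
  let η : ∀ n, Y n ≅ (FEt.restrict (CohB1.thickTrans f I n)).obj (Y (n + 1)) := fun n =>
    (FEt.restrict (c n)).preimageIso (eY n ≪≫ (eY (n + 1)).symm ≪≫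
      (Pi1FEt.restrictCongr (hct n)).symm.app (Y (n + 1)) ≪≫
      (Pi1FEt.restrictCompIso (c n) (CohB1.thickTrans f I n)).app (Y (n + 1)))
  let t : ∀ n, (Y n).left ⟶ (Y (n + 1)).left := fun n =>
    (η n).hom.left ≫ pullback.fst (Y (n + 1)).hom (CohB1.thickTrans f I n)
  have ht : ∀ n, IsPullback (t n) (Y n).hom (Y (n + 1)).hom (CohB1.thickTrans f I n) :=
    fun n => isPullback_of_iso_restrict (η n)
  haveI hfin : ∀ n, IsFinite (Y n).hom := fun n => (Y n).prop.1
  let D := Data.ofThick (f := f) (fun n => (Y n).left) (fun n => (Y n).hom) t hfin ht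
  haveI : IsClosedImmersion (CohB1.specQuot I 0) :=
    IsClosedImmersion.spec_of_surjective _ Ideal.Quotient.mk_surjective
  have hp0 : IsProper (D.p 0 ≫ f) := by
    show IsProper (((Y 0).hom ≫ CohB1.thickι f I 0) ≫ f)
    infer_instance
  obtain ⟨W, i, w, hi, -, -, hwi, hpb⟩ := algebraize_finite D hp0
  have hpb' : ∀ n, IsPullback (w n) (Y n).hom i (CohB1.thickι f I n) := fun n =>
    IsPullback.of_bot (hpb n) (hwi n) (IsPullback.of_hasPullback f (CohB1.specQuot I n))
  haveI : Etale i := etale_of_levels f i (fun n => (Y n).hom) w hpb' fun n => (Y n).prop.2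
  let U : FEt.Cat X := MorphismProperty.Over.mk ⊤ i ⟨hi, inferInstance⟩
  refine ⟨U, ⟨?_⟩⟩
  exact (Pi1FEt.restrictCongr (hc 0)).symm.app U ≪≫
    (Pi1FEt.restrictCompIso (c 0) (CohB1.thickι f I 0)).app U ≪≫
    (FEt.restrict (c 0)).mapIso (isoRestrict (U := U) (w 0) (hpb' 0)).symm ≪≫ eY 0

/-- The complete case needed for proper base change. -/
theorem completeCase : Groth.Pi1PBC.CompleteCase.{u} :=
  fun A _ _ I _ _ f _ => essSurj_restrict_complete A I f

end Groth.FormalAlg
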