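import Groth.Agent.FormalAlg.System
import Groth.Agent.QCohMod.Coherent
import Groth.Agent.CohProper.Image
import Mathlib

/-!
# Algebraization of formal closed subschemes
-/

universe u

open CategoryTheory CategoryTheory.Limits AlgebraicGeometry Opposite RelSpec TopologicalSpace

set_option autoImplicit false
set_option backward.isDefEq.respectTransparency false
set_option linter.style.haveILetI false

noncomputable section

namespace Groth.FormalAlg

variable {A : Type u} [CommRing A] {X : Scheme.{u}}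

theorem baseHom_eq_zero_of_factors {T : Scheme.{u}} (b : T ⟶ Spec (CommRingCat.of A)) (J : Ideal A)
    (q : T ⟶ Spec (CommRingCat.of (A ⧸ J)))
    (h : b = q ≫ Spec.map (CommRingCat.ofHom (Ideal.Quotient.mk J))) (U : T.Opens) {a : A} (ha : a ∈ J) :
    baseHom b U a = 0 := by
  subst h
  set g := Spec.map (CommRingCat.ofHom (Ideal.Quotient.mk J))
  have h0 : baseHom g ⊤ a = 0 := by
    have : (Scheme.ΓSpecIso (CommRingCat.of A)).inv ≫ g.appTop =
        CommRingCat.ofHom (Ideal.Quotient.mk J) ≫ (Scheme.ΓSpecIso (CommRingCat.of (A ⧸ J))).inv :=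
      (Scheme.ΓSpecIso_inv_naturality _).symm
    rw [baseHom, show g.appLE ⊤ ⊤ le_top = g.appTop by
      rw [Scheme.Hom.appTop, Scheme.Hom.app_eq_appLE]; rfl, this]
    show (Scheme.ΓSpecIso (CommRingCat.of (A ⧸ J))).inv.hom (Ideal.Quotient.mk J a) = 0
    rw [Ideal.Quotient.eq_zero_iff_mem.2 ha, map_zero]
  have : baseHom (q ≫ g) ⊤ a = 0 :=
    (RingHom.congr_fun (baseHom_comp q g ⊤) a).trans (by rw [RingHom.comp_apply, h0, map_zero])
  rw [baseHom_res, this, map_zero]

/-- The annihilator of the image of `1`. -/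
def kerIdealAt {M : X.Modules} (φ : (QCAlg.unit X).toModule ⟶ M) (U : X.Opens) : Ideal Γ(X, U) where
  carrier := {r | φ.app U (QCohMod.ofB (QCAlg.unit X) r) = 0}
  add_mem' := fun {r s} hr hs => by
    show φ.app U (QCohMod.ofB (QCAlg.unit X) r + QCohMod.ofB (QCAlg.unit X) s) = 0
    rw [map_add, show φ.app U _ = 0 from hr, show φ.app U _ = 0 from hs, add_zero]
  zero_mem' := map_zero _
  smul_mem' := fun c r hr => by
    show φ.app U (c • QCohMod.ofB (QCAlg.unit X) r) = 0
    rw [φ.app_smul, show φ.app U _ = 0 from hr, smul_zero]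

/-- The ideal sheaf killed by a map from the structure sheaf. -/
def kerIdeal {M : X.Modules} [M.IsQuasicoherent] (φ : (QCAlg.unit X).toModule ⟶ M) : X.IdealSheafData where
  ideal U := kerIdealAt φ U.1
  map_ideal_basicOpen U g := by
    refine le_antisymm (Ideal.map_le_iff_le_comap.2 fun r hr => ?_) fun r hr => ?_
    · show φ.app (X.basicOpen g) (QCohMod.res (QCAlg.unit X).toModule (X.basicOpen_le g) (QCohMod.ofB (QCAlg.unit X) r)) = 0
      rw [← QCohMod.res_app φ, show φ.app U.1 _ = 0 from hr, map_zero]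
    · haveI := QCohMod.isQCoh_toModule (QCAlg.unit X)
      obtain ⟨n, t, ht⟩ := QCohMod.exists_pow_smul_eq_res (QCAlg.unit X).toModule U.2 g
        (QCohMod.ofB (QCAlg.unit X) r)
      have hr0 : φ.app (X.basicOpen g) (QCohMod.ofB (QCAlg.unit X) r) = 0 := hr
      have h0 : QCohMod.res M (X.basicOpen_le g) (φ.app U.1 t) = 0 := by
        rw [QCohMod.res_app φ, ht, φ.app_smul, hr0, smul_zero]
      obtain ⟨k, hk⟩ := QCohMod.exists_pow_smul_eq_zero M U.2 g _ h0
      have hmem : (show Γ(X, U.1) from g ^ k • t) ∈ kerIdealAt φ U.1 := by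
        show φ.app U.1 (g ^ k • t) = 0
        rw [φ.app_smul, hk]
      set ρ := (X.presheaf.map (homOfLE (X.basicOpen_le g)).op).hom
      have hu : IsUnit (ρ g) := RingedSpace.isUnit_res_basicOpen X.toRingedSpace g
      refine (Ideal.unit_mul_mem_iff_mem _ (hu.pow (k + n))).1 ?_
      have h1 := Ideal.mem_map_of_mem ρ hmem
      convert h1 using 1
      show ρ g ^ (k + n) * r = ρ (g ^ k * (show Γ(X, U.1) from t))
      rw [map_mul, map_pow, pow_add, mul_assoc]
      exact congrArg _ ht.symm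

variable [IsNoetherianRing A] {I : Ideal A} [IsAdicComplete I A]
  {f : X ⟶ Spec (CommRingCat.of A)} [IsSeparated f] [LocallyOfFiniteType f] [QuasiCompact f]

/-- A coherent module which agrees with `I` times itself and has proper support vanishes. -/
theorem subsingleton_sections_of_eq_smul [X.Over (Spec (CommRingCat.of A))]
    (hf : X ↘ Spec (CommRingCat.of A) = f) (Q : X.Modules) (hQ : Coh.IsCoh Q)
    (hs : ClSub.IsProperOver f (CohB1.support Q))
    (hI : ∀ U : X.Opens, IsAffineOpen U →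
      (⊤ : Submodule Γ(X, U) Γ(Q, U)) ≤ I.map (CohC3.baseApp X U) • ⊤) :
    CohB1.support Q = ∅ := by
  haveI := hQ.1
  by_contra hne
  obtain ⟨hc, hp⟩ := hs
  set K := Scheme.IdealSheafData.vanishingIdeal (⟨CohB1.support Q, hc⟩ : Closeds X)
  have hr : Set.range K.subschemeι.base = CohB1.support Q := by
    rw [Scheme.IdealSheafData.range_subschemeι, Scheme.IdealSheafData.coe_support_vanishingIdeal]; rfl
  obtain ⟨x₀, hx₀⟩ := Set.nonempty_iff_ne_empty.2 hne
  obtain ⟨w₀, rfl⟩ := hr.ge hx₀
  obtain ⟨𝔪, h𝔪, hle⟩ := Ideal.exists_le_maximal (f.base (K.subschemeι.base w₀)).asIdeal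
    (f.base (K.subschemeι.base w₀)).isPrime.ne_top
  have hcl : IsClosed (Set.range (K.subschemeι ≫ f).base) := (K.subschemeι ≫ f).isClosedMap.isClosed_range
  obtain ⟨w, hw⟩ : (⟨𝔪, h𝔪.isPrime⟩ : PrimeSpectrum A) ∈ Set.range (K.subschemeι ≫ f).base :=
    ((PrimeSpectrum.le_iff_specializes _ _).1 hle).mem_closed hcl ⟨w₀, rfl⟩
  set x := K.subschemeι.base w
  have hx : x ∈ CohB1.support Q := hr.le ⟨w, rfl⟩
  obtain ⟨_, ⟨U, hU, rfl⟩, hxU, -⟩ :=
    X.isBasis_affineOpens.exists_subset_of_mem_open (Set.mem_univ x) isOpen_univ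
  haveI : Module.Finite Γ(X, U) Γ(Q, U) := QCohMod.finite_sections Q hQ.2 hU
  obtain ⟨r, hr1, hr0⟩ := Submodule.exists_sub_one_mem_and_smul_eq_zero_of_fg_of_le_smul
    (I.map (CohC3.baseApp X U)) ⊤ Module.Finite.fg_top (hI U hU)
  -- every element of `I` vanishes at `x`
  have hvan : ∀ z ∈ I.map (CohC3.baseApp X U), x ∉ X.basicOpen z := by
    intro z hz hxz
    obtain ⟨P, hP⟩ : x ∈ Set.range hU.fromSpec.base := by rw [hU.range_fromSpec]; exact hxU
    have hP' : P ∈ hU.fromSpec ⁻¹ᵁ X.basicOpen z := by show hU.fromSpec.base P ∈ X.basicOpen z; rw [hP]; exact hxz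
    rw [hU.fromSpec_preimage_basicOpen] at hP'
    refine hP' ((Ideal.map_le_iff_le_comap.2 fun a ha => ?_) hz)
    have h1 : f.base (hU.fromSpec.base P) = ⟨𝔪, h𝔪.isPrime⟩ := by rw [hP]; exact hw
    rw [← Scheme.Hom.comp_apply, fromSpec_comp] at h1
    have h2 : a ∈ 𝔪 :=
      (IsAdicComplete.le_jacobson_bot I).trans (sInf_le ⟨bot_le, h𝔪⟩) ha
    have h3 : a ∈ Ideal.comap (baseHom f U) P.asIdeal :=
      (congrArg PrimeSpectrum.asIdeal h1).ge h2
    rw [← baseHom_eq_baseApp, hf]
    exact h3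
  have hru : IsUnit ((X.presheaf.germ U x hxU).hom r) := by
    by_contra hnu
    have hxr : x ∉ X.basicOpen r := fun h => hnu ((X.toRingedSpace.mem_basicOpen r x hxU).1 h)
    refine hvan _ hr1 ((X.toRingedSpace.mem_basicOpen _ x hxU).2 ?_)
    have : (X.presheaf.germ U x hxU).hom (r - 1) = (X.presheaf.germ U x hxU).hom r - 1 := by simp
    show IsUnit ((X.presheaf.germ U x hxU).hom (r - 1))
    rw [this, IsUnit.sub_iff]
    exact IsLocalRing.isUnit_one_sub_self_of_mem_nonunits _ hnu
  refine hx (subsingleton_of_forall_eq 0 fun t => ?_)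
  obtain ⟨a, m, hxa, ham⟩ := QCohMod.exists_smul_germ_eq Q hU x hxU t
  have hm : QCohMod.germ Q x hxU m = 0 := by
    have h1 := congrArg (QCohMod.germ Q x hxU) (hr0 m trivial)
    rw [QCohMod.germ_smul, map_zero] at h1
    exact hru.smul_eq_zero.1 h1
  rw [hm] at ham
  exact ((X.toRingedSpace.mem_basicOpen a x hxU).1 hxa).smul_eq_zero.1 ham

/-- A closed subscheme with range proper over the base is proper. -/
theorem isProper_of_range {S Z X' : Scheme.{u}} (i : Z ⟶ X') [IsClosedImmersion i] (g : X' ⟶ S) [IsSeparated g]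
    [LocallyOfFiniteType g] [QuasiCompact g] (hc : IsClosed (Set.range i.base))
    (hp : IsProper ((Scheme.IdealSheafData.vanishingIdeal ⟨Set.range i.base, hc⟩).subschemeι ≫ g)) :
    IsProper (i ≫ g) := by
  set K := Scheme.IdealSheafData.vanishingIdeal (⟨Set.range i.base, hc⟩ : Closeds X')
  haveI := hp
  haveI : Surjective (pullback.fst i K.subschemeι) := ⟨fun z => by
    have hz : z ∈ Set.range (pullback.fst i K.subschemeι).base := by
      rw [Scheme.Pullback.range_fst, Scheme.IdealSheafData.range_subschemeι,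
        Scheme.IdealSheafData.coe_support_vanishingIdeal]
      exact ⟨z, rfl⟩
    exact hz⟩
  haveI : IsClosedImmersion (pullback.snd i K.subschemeι) := MorphismProperty.pullback_snd _ _ inferInstance
  haveI : UniversallyClosed (pullback.fst i K.subschemeι ≫ i ≫ g) := by
    rw [pullback.condition_assoc]; infer_instance
  haveI : UniversallyClosed (i ≫ g) := UniversallyClosed.of_comp_surjective (pullback.fst i K.subschemeι) (i ≫ g)
  exact {}

/-- The `n`-th projection of the structure sheaf. -/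
def Data.unitMap (D : Data f I) (n : ℕ) : QCAlg.unit X ⟶ D.alg n :=
  ⟨(D.alg n).str, Category.id_comp _⟩

set_option maxHeartbeats 800000 in
/-- Formal closed subschemes with proper reduction algebraize. -/
theorem algebraize_closed (D : Data f I) (hclosed : ∀ n, IsClosedImmersion (D.p n))
    (hp : IsProper (D.p 0 ≫ f)) :
    ∃ (W : Scheme.{u}) (i : W ⟶ X) (w : ∀ n, D.Y n ⟶ W), IsClosedImmersion i ∧ IsProper (i ≫ f) ∧
      (∀ n, w n = D.t n ≫ w (n + 1)) ∧ (∀ n, w n ≫ i = D.p n) ∧
      ∀ n, IsPullback (w n) (D.q n) (i ≫ f) (CohB1.specQuot I n) := by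
  letI : X.Over (Spec (CommRingCat.of A)) := ⟨f⟩
  have hf : X ↘ Spec (CommRingCat.of A) = f := rfl
  haveI : IsSeparated (X ↘ Spec (CommRingCat.of A)) := ‹IsSeparated f›
  haveI : LocallyOfFiniteType (X ↘ Spec (CommRingCat.of A)) := ‹LocallyOfFiniteType f›
  haveI : QuasiCompact (X ↘ Spec (CommRingCat.of A)) := ‹QuasiCompact f›
  haveI := CohC3.isNoetherian_of_finiteType A X
  have hG := D.isCohFormal hf
  have hsupp : CohC3.PSupp (X ↘ Spec (CommRingCat.of A)) (D.G.obj (op 0)) := by
    haveI := hp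
    exact ⟨_, CohProper.isProperOver_range (D.p 0) f, D.support_subset 0⟩
  obtain ⟨M, hM, hMs, ⟨e⟩⟩ := CohC3.algebraizesSupp_finiteType X D.G hG hsupp
  haveI := hM.1
  have hO : Coh.IsCoh (QCAlg.unit X).toModule := by
    haveI := QCohMod.isQCoh_toModule (QCAlg.unit X)
    refine ⟨inferInstance, ?_⟩
    show CohB1.IsFT (QCAlg.unit X).toModule
    refine (QCohMod.isFT_iff _).2 fun U _ => ?_
    exact Module.Finite.self Γ(X, U)
  haveI := hO.1
  -- the projections of `M` and of the structure sheaf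
  let pr : ∀ n, M ⟶ D.G.obj (op n) := fun n => Formal.modPowπ I (n + 1) M ≫ e.hom.app (op n)
  have hpr : ∀ n, CohC3.IsQuot (I ^ (n + 1)) (pr n) := fun n =>
    (CohC3.isQuot_modPowπ I (n + 1) M).comp_iso (e.hom.app (op n))
  let uι : ∀ n, (QCAlg.unit X).toModule ⟶ D.G.obj (op n) := fun n => QCAlg.Hom.toModuleMap (D.unitMap n)
  have huι : ∀ n, uι (n + 1) ≫ CohC3.sysMap D.G (Nat.le_succ n) = uι n := fun n => by
    rw [D.G_map]
    refine CohTwo.hom_ext_app fun U s => ?_
    show ((D.algMap n).hom.app (op U)).hom (((D.alg (n + 1)).str.app (op U)).hom s) = ((D.alg n).str.app (op U)).hom s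
    rw [← (D.algMap n).comm]
    rfl
  let τ : Formal.completion I (QCAlg.unit X).toModule ⟶ D.G :=
    NatTrans.ofOpSequence (fun n => CohC3.modPowDesc I (n + 1) (uι n) (CohC3.le_annHom_of_killedBy (D.killed hf n) _))
      (fun n => by
        refine (CohC3.isQuot_modPowπ I (n + 1 + 1) _).hom_ext ?_
        change Formal.modPowπ I (n + 1 + 1) _ ≫ CohC3.sysMap (Formal.completion I _) (Nat.le_succ n) ≫ _ =
          Formal.modPowπ I (n + 1 + 1) _ ≫ _ ≫ CohC3.sysMap D.G (Nat.le_succ n)
        erw [CohC3.modPowπ_sysMap_succ_assoc, CohC3.modPowπ_desc, CohC3.modPowπ_desc_assoc]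
        exact (huι n).symm)
  obtain ⟨φ, hφ, -⟩ := CohC3.existsUnique_hom_supp X hO hM hMs (τ ≫ e.inv)
  have hφpr : ∀ n, φ ≫ pr n = uι n := fun n => by
    have h1 : Formal.modPowπ I (n + 1) _ ≫ τ.app (op n) = uι n :=
      CohC3.modPowπ_desc I (n + 1) (uι n) (CohC3.le_annHom_of_killedBy (D.killed hf n) _)
    refine Eq.trans ?_ h1
    show φ ≫ Formal.modPowπ I (n + 1) M ≫ e.hom.app (op n) = _
    refine ((Category.assoc _ _ _).symm.trans (congrArg (· ≫ e.hom.app (op n)) (hφ n).symm)).trans ?_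
    rw [Category.assoc]
    refine congrArg _ ?_
    show (τ.app (op n) ≫ e.inv.app (op n)) ≫ e.hom.app (op n) = τ.app (op n)
    rw [Category.assoc, Iso.inv_hom_id_app]
    exact Category.comp_id _
  haveI : ∀ n, IsClosedImmersion (D.p n) := hclosed
  -- `φ` is surjective on affine opens
  have hsurj : ∀ U : X.Opens, IsAffineOpen U → Function.Surjective (φ.app U) := by
    let Q := cokernel φ
    have hQ : Coh.IsCoh Q := QCohMod.isCoh_cokernel φ hM
    haveI := hQ.1
    have hQs : CohB1.support Q = ∅ := by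
      refine subsingleton_sections_of_eq_smul (I := I) (f := f) hf Q hQ ?_ ?_
      · exact (CohC3.PSupp.of_subset hMs (CohTwo.support_subset_of_epi (cokernel.π φ))).isProperOver hQ
      · intro U hU z _
        obtain ⟨y, rfl⟩ := QCohMod.app_surjective_of_epi (cokernel.π φ) hU z
        obtain ⟨r, hr⟩ := (D.p 0).app_surjective U hU (show Γ(D.Y 0, D.p 0 ⁻¹ᵁ U) from (pr 0).app U y)
        have hz : (pr 0).app U (y - φ.app U (show Γ(X, U) from r)) = 0 := by
          rw [map_sub, CohC3.app_comp_apply, hφpr 0, sub_eq_zero]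
          exact hr.symm
        have hker := ((hpr 0).app_eq_zero_iff _ hU).1 hz
        have h0 : (cokernel.π φ).app U (φ.app U (show Γ(X, U) from r)) = 0 := by
          rw [CohC3.app_comp_apply, cokernel.condition]; rfl
        have h1 : (cokernel.π φ).app U (y - φ.app U (show Γ(X, U) from r)) = (cokernel.π φ).app U y := by
          rw [map_sub, h0, sub_zero]
        rw [← h1, pow_one] at *
        refine Submodule.smul_induction_on hker (fun a ha m _ => ?_) (fun a b ha hb => ?_)
        · rw [Scheme.Modules.Hom.app_smul]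
          exact Submodule.smul_mem_smul ha trivial
        · rw [map_add]; exact add_mem ha hb
    have hzero : IsZero Q := by
      rw [IsZero.iff_id_eq_zero]
      refine CohTwo.hom_ext_app fun W s => CohTwo.eq_of_local Q _ _ fun x hx => ?_
      have hxs : x ∉ CohB1.support Q := by rw [hQs]; exact Set.notMem_empty x
      haveI : Subsingleton (Q.presheaf.stalk x) := (CohTwo.notMem_support_iff _ x).1 hxs
      obtain ⟨V, hxV, h1, h2, hres⟩ := TopCat.Presheaf.germ_eq Q.presheaf x hx hx
        (show Γ(Q, W) from (𝟙 Q : Q ⟶ Q).app W s) (show Γ(Q, W) from (0 : Q ⟶ Q).app W s) (Subsingleton.elim _ _)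
      exact ⟨V, h1.le, hxV, hres⟩
    haveI : Epi φ := Abelian.epi_of_cokernel_π_eq_zero _ (hzero.eq_of_tgt _ _)
    exact fun U hU => QCohMod.app_surjective_of_epi φ hU
  -- the closed subscheme
  let J := kerIdeal φ
  let i := J.subschemeι
  have hle : ∀ n, i.ker ≤ (D.p n).ker := fun n => by
    rw [Scheme.IdealSheafData.ker_subschemeι]
    intro U r hr
    rw [(D.p n).ker_apply, RingHom.mem_ker]
    have h1 := congr(($(hφpr n)).app U.1 (QCohMod.ofB (QCAlg.unit X) r))
    rw [← CohC3.app_comp_apply, show φ.app U.1 _ = 0 from hr, map_zero] at h1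
    exact h1.symm
  let w : ∀ n, D.Y n ⟶ J.subscheme := fun n => IsClosedImmersion.lift i (D.p n) (hle n)
  have hw : ∀ n, w n ≫ i = D.p n := fun n => IsClosedImmersion.lift_fac _ _ _
  have hrange : Set.range i.base ⊆ CohB1.support M := by
    rintro _ ⟨y, rfl⟩ hys
    haveI := hys
    obtain ⟨_, ⟨U, hU, rfl⟩, hyU, -⟩ :=
      X.isBasis_affineOpens.exists_subset_of_mem_open (Set.mem_univ (i.base y)) isOpen_univ
    have hg : QCohMod.germ M (i.base y) hyU (φ.app U (show Γ(X, U) from (1 : Γ(X, U)))) =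
        QCohMod.germ M (i.base y) hyU 0 := Subsingleton.elim _ _
    obtain ⟨V, hxV, h1, h2, hres⟩ := TopCat.Presheaf.germ_eq M.presheaf (i.base y) hyU hyU _ _ hg
    obtain ⟨_, ⟨U', hU', rfl⟩, hyU', hU'V⟩ :=
      X.isBasis_affineOpens.exists_subset_of_mem_open hxV V.isOpen
    have h1mem : (1 : Γ(X, U')) ∈ J.ideal ⟨U', hU'⟩ := by
      have h3 := (congrArg (fun v => QCohMod.res M (show U' ≤ V from hU'V) v) hres).trans
        ((congrArg (QCohMod.res M (show U' ≤ V from hU'V)) (map_zero (M.presheaf.map h2.op).hom)).trans (map_zero _))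
      show φ.app U' _ = 0
      refine Eq.trans ?_ h3
      show _ = QCohMod.res M (show U' ≤ V from hU'V) (QCohMod.res M h1.le (φ.app U _))
      rw [QCohMod.res_res, QCohMod.res_app φ]
      exact congrArg (φ.app U') (map_one (X.presheaf.map (homOfLE _).op).hom).symm
    have hys' : i.base y ∈ (J.support : Set X) := by rw [← Scheme.IdealSheafData.range_subschemeι]; exact ⟨y, rfl⟩
    have h4 := (Scheme.IdealSheafData.mem_support_iff.1 hys' ⟨U', hU'⟩)
    rw [Scheme.mem_zeroLocus_iff] at h4
    exact h4 1 h1mem (by rw [Scheme.basicOpen_of_isUnit _ isUnit_one]; exact hyU')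
  have hproper : IsProper (i ≫ f) := by
    obtain ⟨T, hT, hsub⟩ := hMs
    obtain ⟨hc, hTp⟩ := CohC3.isProperOver_mono hT (hrange.trans hsub) i.isClosedEmbedding.isClosed_range
    exact isProper_of_range i f hc hTp
  refine ⟨J.subscheme, i, w, inferInstance, hproper, fun n => ?_, hw, fun n => ?_⟩
  · rw [← cancel_mono i, Category.assoc, hw, hw, D.ht]
  · haveI : Mono (w n) := by
      haveI : Mono (w n ≫ i) := by rw [hw]; infer_instance
      exact mono_of_mono _ i
    have hker : ∀ s : PullbackCone (i ≫ f) (CohB1.specQuot I n), (D.p n).ker ≤ (s.fst ≫ i).ker := fun s => by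
      refine Scheme.IdealSheafData.le_ofIdeals_iff.2 fun U r hr => ?_
      rw [(D.p n).ker_apply, RingHom.mem_ker] at hr
      have h1 : (pr n).app U.1 (φ.app U.1 (QCohMod.ofB (QCAlg.unit X) r)) = 0 := by
        rw [CohC3.app_comp_apply, hφpr n]; exact hr
      have h2 := ((hpr n).app_eq_zero_iff _ U.2).1 h1
      -- write the section as `J` plus `I^(n+1)`
      have h3 : ∃ r' ∈ (I ^ (n + 1)).map (CohC3.baseApp X U.1), r - r' ∈ J.ideal U := by
        have : ∀ m ∈ (I ^ (n + 1)).map (CohC3.baseApp X U.1) • (⊤ : Submodule Γ(X, U.1) Γ(M, U.1)),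
            ∃ r' ∈ (I ^ (n + 1)).map (CohC3.baseApp X U.1), φ.app U.1 (QCohMod.ofB (QCAlg.unit X) r') = m := by
          intro m hm
          refine Submodule.smul_induction_on hm (fun a ha v _ => ?_) ?_
          · obtain ⟨c, rfl⟩ := hsurj U.1 U.2 v
            refine ⟨a * (show Γ(X, U.1) from c), Ideal.mul_mem_right _ _ ha, ?_⟩
            rw [← φ.app_smul]
            rfl
          · rintro a b ⟨ra, hra, rfl⟩ ⟨rb, hrb, rfl⟩
            exact ⟨ra + rb, add_mem hra hrb, map_add (φ.app U.1).hom _ _⟩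
        obtain ⟨r', hr', he⟩ := this _ h2
        refine ⟨r', hr', ?_⟩
        show φ.app U.1 (QCohMod.ofB (QCAlg.unit X) r - QCohMod.ofB (QCAlg.unit X) r') = 0
        rw [map_sub, he, sub_self]
      obtain ⟨r', hr', hrJ⟩ := h3
      rw [RingHom.mem_ker, ← sub_add_cancel r r', map_add]
      have e1 : ((s.fst ≫ i).app U.1).hom (r - r') = 0 := by
        rw [Scheme.Hom.comp_app, CommRingCat.hom_comp, RingHom.comp_apply]
        have : (i.app U.1).hom (r - r') = 0 := by
          rw [← RingHom.mem_ker, Scheme.IdealSheafData.ker_subschemeι_app]; exact hrJ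
        rw [this, map_zero]
      have e2 : ((s.fst ≫ i).app U.1).hom r' = 0 := by
        refine (Ideal.map_le_iff_le_comap.2 fun a ha => ?_ : (I ^ (n + 1)).map (CohC3.baseApp X U.1) ≤
          RingHom.ker ((s.fst ≫ i).app U.1).hom) hr'
        show ((s.fst ≫ i).app U.1).hom (CohC3.baseApp X U.1 a) = 0
        rw [← baseHom_eq_baseApp, ← RingHom.comp_apply, ← baseHom_comp, hf, Category.assoc]
        exact baseHom_eq_zero_of_factors _ _ s.snd s.condition _ ha
      rw [e1, e2, add_zero]
    refine ⟨⟨by rw [reassoc_of% (hw n)]; exact D.comm n⟩, ⟨PullbackCone.IsLimit.mk _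
      (fun s => IsClosedImmersion.lift (D.p n) (s.fst ≫ i) (hker s)) (fun s => ?_) (fun s => ?_)
      (fun s m h1 h2 => ?_)⟩⟩
    · rw [← cancel_mono i, Category.assoc, hw, IsClosedImmersion.lift_fac]
    · haveI : Mono (CohB1.specQuot I n) := by
        haveI : IsClosedImmersion (CohB1.specQuot I n) :=
          IsClosedImmersion.spec_of_surjective _ Ideal.Quotient.mk_surjective
        infer_instance
      rw [← cancel_mono (CohB1.specQuot I n), Category.assoc, ← D.comm n, IsClosedImmersion.lift_fac_assoc,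
        Category.assoc]
      exact s.condition
    · rw [← cancel_mono (w n)]
      rw [h1, ← cancel_mono i, Category.assoc, hw, IsClosedImmersion.lift_fac]

end Groth.FormalAlg
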