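import Groth.Agent.FormalAlg.Closed
import Groth.Agent.SymAlg.Univ
import Groth.Agent.Limits.RelSpecColimit
import Mathlib

/-!
# Algebraization of formal finite schemes

A formal scheme finite over `X` is a formal closed subscheme of the vector bundle of the module
algebraizing its coherent algebra.
-/

universe u

open CategoryTheory CategoryTheory.Limits AlgebraicGeometry Opposite RelSpec TopologicalSpace

set_option autoImplicit false
set_option backward.isDefEq.respectTransparency false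
set_option linter.style.haveILetI false

noncomputable section

namespace Groth.FormalAlg

open Groth.Limits.RelSpecColimit (IsLift)

/-- A finite module gives a finite type symmetric algebra. -/
theorem finiteType_symmetricAlgebra (R M : Type u) [CommRing R] [AddCommGroup M] [Module R M] [Module.Finite R M] :
    Algebra.FiniteType R (SymmetricAlgebra R M) := by
  classical
  obtain ⟨T, hT⟩ := Module.Finite.fg_top (R := R) (M := M)
  refine ⟨⟨T.image (SymmetricAlgebra.ι R M), top_le_iff.1 fun x _ => ?_⟩⟩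
  have hι : ∀ e : M, SymmetricAlgebra.ι R M e ∈
      Algebra.adjoin R (↑(T.image (SymmetricAlgebra.ι R M)) : Set (SymmetricAlgebra R M)) := by
    intro e
    have he : e ∈ Submodule.span R (T : Set M) := by rw [hT]; trivial
    refine Algebra.span_le_adjoin R _ ?_
    rw [Finset.coe_image, ← Submodule.map_span]
    exact ⟨e, he, rfl⟩
  induction x using SymmetricAlgebra.induction with
  | algebraMap r => exact Subalgebra.algebraMap_mem _ r
  | ι e => exact hι e
  | mul a b ha hb => exact mul_mem (ha trivial) (hb trivial)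
  | add a b ha hb => exact add_mem (ha trivial) (hb trivial)

variable {X : Scheme.{u}}

/-- The vector bundle of a module of finite type is locally of finite type. -/
theorem locallyOfFiniteType_symQC_π (M : X.Modules) [M.IsQuasicoherent] (hM : CohB1.IsFT M) :
    LocallyOfFiniteType (SymAlg.symQC M).π := by
  refine IsZariskiLocalAtSource.of_openCover (SymAlg.symQC M).glueData.cover fun U => ?_
  show LocallyOfFiniteType ((SymAlg.symQC M).ι U.1 U.2 ≫ (SymAlg.symQC M).π)
  rw [QCAlg.ι_π]
  haveI : LocallyOfFiniteType (Spec.map ((SymAlg.symQC M).str.app (op U.1))) := by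
    rw [HasRingHomProperty.Spec_iff (P := @LocallyOfFiniteType)]
    haveI : Module.Finite Γ(X, U.1) Γ(M, U.1) := QCohMod.finite_sections M hM U.2
    have h1 : (algebraMap Γ(X, U.1) (SymmetricAlgebra Γ(X, U.1) Γ(M, U.1))).FiniteType :=
      RingHom.finiteType_algebraMap.2 (finiteType_symmetricAlgebra _ _)
    have h2 : ((SymAlg.symQC M).str.app (op U.1)).hom =
        (SymAlg.secEquiv M U.1 U.2).symm.toRingHom.comp (algebraMap _ _) := RingHom.ext fun r =>
      ((SymAlg.secEquiv M U.1 U.2).eq_symm_apply).2 (SymAlg.secEquiv_str M U.2 r)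
    rw [h2]
    exact h1.comp_surjective (SymAlg.secEquiv M U.1 U.2).symm.surjective
  infer_instance

variable {A : Type u} [CommRing A] {I : Ideal A} {f : X ⟶ Spec (CommRingCat.of A)}

/-- Lifts to relative spectra are natural in the source. -/
theorem isLift_precomp {Y Y' : Scheme.{u}} {p : Y ⟶ X} {p' : Y' ⟶ X} [QuasiCompact p] [QuasiSeparated p]
    [QuasiCompact p'] [QuasiSeparated p'] {B : QCAlg X} (h : Y ⟶ Y') (w : h ≫ p' = p)
    {φ : B ⟶ QCAlg.directImage p'} {v : Y' ⟶ B.spec} (hv : IsLift p' φ v) :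
    IsLift p (φ ≫ (⟨AffAlg.algHom p' p h w, AffAlg.algHom_comm _ _ _ _⟩ :
      QCAlg.directImage p' ⟶ QCAlg.directImage p)) (h ≫ v) := by
  intro U hU
  have e : p ⁻¹ᵁ U ≤ h ⁻¹ᵁ p' ⁻¹ᵁ U := by rw [← Scheme.Hom.comp_preimage, w]
  have h1 : Spec.map ((φ ≫ (⟨AffAlg.algHom p' p h w, AffAlg.algHom_comm _ _ _ _⟩ :
      QCAlg.directImage p' ⟶ QCAlg.directImage p)).hom.app (op U)) =
      Spec.map (h.appLE (p' ⁻¹ᵁ U) (p ⁻¹ᵁ U) e) ≫ Spec.map (φ.hom.app (op U)) := by
    rw [← Spec.map_comp]
    congr 1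
    exact congrArg (φ.hom.app (op U) ≫ ·) (algHom_app p' p h w U)
  rw [h1, Category.assoc, ← Scheme.Hom.resLE_comp_ι_assoc h e v, hv U hU]
  simp [Scheme.Hom.appLE, Scheme.Opens.toSpecΓ_SpecMap_presheaf_map_assoc, Scheme.Hom.resLE,
    Scheme.Opens.toSpecΓ_naturality_assoc]

/-- A map into a relative spectrum given by a map of algebras surjective on affine opens is a closed
immersion. -/
theorem isClosedImmersion_of_isLift {Y : Scheme.{u}} {p : Y ⟶ X} [IsAffineHom p] {B : QCAlg X}
    {φ : B ⟶ QCAlg.directImage p} {v : Y ⟶ B.spec} (hv : IsLift p φ v)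
    (hφ : ∀ (U : X.Opens), IsAffineOpen U → Function.Surjective (φ.hom.app (op U)).hom) :
    IsClosedImmersion v := by
  have htop : iSup (fun U : X.affineOpens => B.π ⁻¹ᵁ U.1) = ⊤ := by
    rw [← Scheme.Hom.preimage_iSup, iSup_affineOpens_eq_top, Scheme.Hom.preimage_top]
  refine IsZariskiLocalAtTarget.of_iSup_eq_top _ htop fun U => ?_
  have hpre : v ⁻¹ᵁ (B.ι U.1 U.2).opensRange = (p ⁻¹ᵁ U.1).ι.opensRange := by
    rw [← B.π_preimage, ← Scheme.Hom.comp_preimage, hv.comp_π, Scheme.Opens.opensRange_ι]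
  have hsq := IsOpenImmersion.isPullback ((p ⁻¹ᵁ U.1).toSpecΓ ≫ Spec.map (φ.hom.app (op U.1)))
    (p ⁻¹ᵁ U.1).ι (B.ι U.1 U.2) v (by rw [Category.assoc]; exact hv U.1 U.2) hpre
  haveI : IsClosedImmersion ((p ⁻¹ᵁ U.1).toSpecΓ ≫ Spec.map (φ.hom.app (op U.1))) := by
    haveI : IsIso (p ⁻¹ᵁ U.1).toSpecΓ := by
      rw [← (U.2.preimage p).isoSpec_hom]; infer_instance
    haveI := IsClosedImmersion.spec_of_surjective (φ.hom.app (op U.1)) (hφ U.1 U.2)
    infer_instance
  rw [B.π_preimage U.1 U.2]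
  refine ((MorphismProperty.arrow_mk_iso_iff @IsClosedImmersion (morphismRestrictOpensRange v (B.ι U.1 U.2))).2 ?_)
  rw [← hsq.flip.isoPullback_inv_snd]
  infer_instance

variable [IsNoetherianRing A] [IsAdicComplete I A] [IsSeparated f] [LocallyOfFiniteType f] [QuasiCompact f]

set_option maxHeartbeats 800000 in
/-- Formal finite schemes with proper reduction algebraize. -/
theorem algebraize_finite (D : Data f I) (hp : IsProper (D.p 0 ≫ f)) :
    ∃ (W : Scheme.{u}) (i : W ⟶ X) (w : ∀ n, D.Y n ⟶ W), IsFinite i ∧ IsProper (i ≫ f) ∧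
      (∀ n, w n = D.t n ≫ w (n + 1)) ∧ (∀ n, w n ≫ i = D.p n) ∧
      ∀ n, IsPullback (w n) (D.q n) (i ≫ f) (CohB1.specQuot I n) := by
  letI : X.Over (Spec (CommRingCat.of A)) := ⟨f⟩
  have hf : X ↘ Spec (CommRingCat.of A) = f := rfl
  haveI : IsSeparated (X ↘ Spec (CommRingCat.of A)) := ‹IsSeparated f›
  haveI : LocallyOfFiniteType (X ↘ Spec (CommRingCat.of A)) := ‹LocallyOfFiniteType f›
  haveI : QuasiCompact (X ↘ Spec (CommRingCat.of A)) := ‹QuasiCompact f›
  haveI := CohC3.isNoetherian_of_finiteType A X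
  have hG := D.isCohFormal hf
  have hsupp : CohC3.PSupp (X ↘ Spec (CommRingCat.of A)) (D.G.obj (op 0)) := by
    haveI := hp
    exact ⟨_, CohProper.isProperOver_range (D.p 0) f, D.support_subset 0⟩
  obtain ⟨M, hM, hMs, ⟨e⟩⟩ := CohC3.algebraizesSupp_finiteType X D.G hG hsupp
  haveI := hM.1
  let pr : ∀ n, M ⟶ D.G.obj (op n) := fun n => Formal.modPowπ I (n + 1) M ≫ e.hom.app (op n)
  have hpr : ∀ n, CohC3.IsQuot (I ^ (n + 1)) (pr n) := fun n =>
    (CohC3.isQuot_modPowπ I (n + 1) M).comp_iso (e.hom.app (op n))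
  have hprc : ∀ n, pr (n + 1) ≫ QCAlg.Hom.toModuleMap (D.algMap n) = pr n := fun n => by
    rw [← D.G_map n]
    show (Formal.modPowπ I (n + 1 + 1) M ≫ e.hom.app (op (n + 1))) ≫ D.G.map _ = _
    rw [Category.assoc, ← e.hom.naturality]
    show Formal.modPowπ I (n + 1 + 1) M ≫ CohC3.sysMap (Formal.completion I M) (Nat.le_succ n) ≫ _ = _
    erw [CohC3.modPowπ_sysMap_succ_assoc]
  -- the algebra maps
  have hS := SymAlg.isSymAlg_symQC M
  choose φ hφ huniq using fun n => hS (D.alg n) (pr n)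
  have hφsucc : ∀ n, φ (n + 1) ≫ D.algMap n = φ n := fun n => huniq n _ (by
    rw [← hprc n, ← hφ (n + 1), Category.assoc]
    rfl)
  let V := (SymAlg.symQC M).spec
  let π : V ⟶ X := (SymAlg.symQC M).π
  haveI : LocallyOfFiniteType π := locallyOfFiniteType_symQC_π M hM.2
  choose v hv using fun n => Groth.Limits.RelSpecColimit.exists_isLift (D.p n) (φ n)
  have hvπ : ∀ n, v n ≫ π = D.p n := fun n => (hv n).comp_π
  have hsurj : ∀ n (U : X.Opens), IsAffineOpen U → Function.Surjective ((φ n).hom.app (op U)).hom := by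
    intro n U hU y
    obtain ⟨m, hm⟩ := (hpr n).app_surjective hU y
    exact ⟨QCohMod.toB _ ((SymAlg.jSym M).app U m), (congr(($(hφ n)).app U m)).trans hm⟩
  have hvc : ∀ n, IsClosedImmersion (v n) := fun n => isClosedImmersion_of_isLift (hv n) (hsurj n)
  let D' : Data (π ≫ f) I :=
    { Y := D.Y
      p := v
      t := D.t
      ht := fun n => by
        refine IsLift.unique (p := D.p n) ?_ (hv n)
        rw [← hφsucc n]
        exact isLift_precomp (D.t n) (D.ht n) (hv (n + 1))
      fin := fun n => by haveI := hvc n; infer_instance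
      q := D.q
      cart := fun n => by rw [reassoc_of% hvπ (n + 1)]; exact D.cart n }
  have hp' : IsProper (D'.p 0 ≫ π ≫ f) := by
    show IsProper (v 0 ≫ π ≫ f)
    rw [reassoc_of% hvπ 0]; exact hp
  obtain ⟨W, i, w, hi, hip, hw, hwi, hpb⟩ := algebraize_closed D' hvc hp'
  haveI := hip
  haveI : IsProper ((i ≫ π) ≫ f) := by rw [Category.assoc]; infer_instance
  haveI : IsProper (i ≫ π) := IsProper.of_comp (i ≫ π) f
  refine ⟨W, i ≫ π, w, (IsFinite.iff_isProper_and_isAffineHom).2 ⟨inferInstance, inferInstance⟩,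
    inferInstance, hw, fun n => ?_, fun n => ?_⟩
  · rw [reassoc_of% hwi n]; exact hvπ n
  · rw [Category.assoc]; exact hpb n

end Groth.FormalAlg
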