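import Groth.Agent.FormalAlg.CompleteCase
import Groth.Agent.S0269
import Groth.Agent.S5117
import Mathlib

/-!
# Covers of proper schemes over complete local rings and their geometric closed fibre
-/

universe u

open CategoryTheory CategoryTheory.Limits AlgebraicGeometry Opposite TopologicalSpace

set_option autoImplicit false
set_option backward.isDefEq.respectTransparency false
set_option linter.style.haveILetI false

noncomputable section

namespace Groth.FormalAlg

/-- Restriction along an isomorphism detects clopen immersions. -/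
theorem exists_clopen_immersion_of_iso {P Q : Scheme.{u}} (e : P ⟶ Q) [IsIso e] {V B : FEt.Cat Q}
    (η : (FEt.restrict e).obj V ⟶ (FEt.restrict e).obj B) (ho : IsOpenImmersion η.left)
    (hc : IsClosedImmersion η.left) :
    ∃ ι : V ⟶ B, IsOpenImmersion ι.left ∧ IsClosedImmersion ι.left := by
  let ι := (FEt.restrict e).preimage η
  refine ⟨ι, ?_⟩
  have h : η.left ≫ pullback.fst B.hom e = pullback.fst V.hom e ≫ ι.left := by
    rw [← (FEt.restrict e).map_preimage η]
    exact pullback.lift_fst _ _ _
  have h2 : ι.left = inv (pullback.fst V.hom e) ≫ η.left ≫ pullback.fst B.hom e := by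
    rw [h, IsIso.inv_hom_id_assoc]
  rw [h2]
  exact ⟨inferInstance, inferInstance⟩

variable {A : Type u} [CommRing A] [IsNoetherianRing A] [IsLocalRing A]
  [IsAdicComplete (IsLocalRing.maximalIdeal A) A]
  {X : Scheme.{u}} (f : X ⟶ Spec (CommRingCat.of A)) [IsProper f]

/-- The closed point. -/
abbrev residuePt (A : Type u) [CommRing A] [IsLocalRing A] :
    Spec (CommRingCat.of (IsLocalRing.ResidueField A)) ⟶ Spec (CommRingCat.of A) :=
  Spec.map (CommRingCat.ofHom (IsLocalRing.residue A))

theorem essSurj_restrict_residue : (FEt.restrict (pullback.fst f (residuePt A))).EssSurj :=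
  essSurj_restrict_complete A (IsLocalRing.maximalIdeal A) f

theorem fullyFaithful_residue : (FEt.restrict (pullback.fst f (residuePt A))).Full ∧
    (FEt.restrict (pullback.fst f (residuePt A))).Faithful :=
  Groth.Pi1PBC.fullyFaithful_henselian (IsLocalRing.maximalIdeal A) f

theorem exists_openClosed_geomFibre
    [ConnectedSpace ↥(pullback f (Spec.map (CommRingCat.ofHom (algebraMap (IsLocalRing.ResidueField A)
      (AlgebraicClosure (IsLocalRing.ResidueField A)))) ≫ residuePt A))]
    (V : FEt.Cat (pullback f (Spec.map (CommRingCat.ofHom (algebraMap (IsLocalRing.ResidueField A)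
      (AlgebraicClosure (IsLocalRing.ResidueField A)))) ≫ residuePt A))) :
    ∃ (U : FEt.Cat X) (ι : V ⟶ (FEt.restrict (pullback.fst f _)).obj U),
      IsOpenImmersion ι.left ∧ IsClosedImmersion ι.left := by
  let g := Spec.map (CommRingCat.ofHom (algebraMap (IsLocalRing.ResidueField A)
      (AlgebraicClosure (IsLocalRing.ResidueField A))))
  let fk := pullback.snd f (residuePt A)
  let e := pullbackLeftPullbackSndIso f (residuePt A) g
  haveI : IsProper fk := MorphismProperty.pullback_snd _ _ ‹IsProper f›
  haveI : CompactSpace ↥(pullback f (residuePt A)) := QuasiCompact.compactSpace_of_compactSpace fk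
  haveI : QuasiSeparatedSpace ↥(pullback f (residuePt A)) := quasiSeparatedSpace_of_quasiSeparated fk
  haveI : ConnectedSpace ↥(pullback fk g) := e.inv.surjective.connectedSpace e.inv.continuous
  obtain ⟨Uk, ι, ho, hc⟩ := Groth.Agent.S0269.result (IsLocalRing.ResidueField A) fk
    ((FEt.restrict e.hom).obj V)
  haveI := essSurj_restrict_residue f
  let z := pullback.fst f (residuePt A)
  let U := (FEt.restrict z).objPreimage Uk
  have he : e.hom ≫ pullback.fst f (g ≫ residuePt A) = pullback.fst fk g ≫ z :=
    pullbackLeftPullbackSndIso_hom_fst _ _ _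
  let ψ : (FEt.restrict (pullback.fst fk g)).obj Uk ≅
      (FEt.restrict e.hom).obj ((FEt.restrict (pullback.fst f (g ≫ residuePt A))).obj U) :=
    (FEt.restrict (pullback.fst fk g)).mapIso ((FEt.restrict z).objObjPreimageIso Uk).symm ≪≫
      (Pi1FEt.restrictCompIso _ _).symm.app U ≪≫ (Pi1FEt.restrictCongr he).symm.app U ≪≫
      (Pi1FEt.restrictCompIso _ _).app U
  haveI : IsIso ψ.hom.left :=
    ((MorphismProperty.Over.forget _ _ _ ⋙ Over.forget _).mapIso ψ).isIso_hom
  obtain ⟨ι', h1, h2⟩ := exists_clopen_immersion_of_iso e.hom (ι ≫ ψ.hom)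
    (inferInstanceAs (IsOpenImmersion (ι.left ≫ ψ.hom.left)))
    (inferInstanceAs (IsClosedImmersion (ι.left ≫ ψ.hom.left)))
  exact ⟨U, ι', h1, h2⟩

theorem exists_from_base_of_section
    [ConnectedSpace ↥(pullback f (Spec.map (CommRingCat.ofHom (algebraMap (IsLocalRing.ResidueField A)
      (AlgebraicClosure (IsLocalRing.ResidueField A)))) ≫ residuePt A))]
    (X' : FEt.Cat X) [ConnectedSpace X'.left]
    (σ : pullback f (Spec.map (CommRingCat.ofHom (algebraMap (IsLocalRing.ResidueField A)
      (AlgebraicClosure (IsLocalRing.ResidueField A)))) ≫ residuePt A) ⟶ X'.left)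
    (hσ : σ ≫ X'.hom = pullback.fst f _) :
    ∃ T : FEt.Cat (Spec (CommRingCat.of A)), Nonempty ((FEt.restrict f).obj T ≅ X') := by
  let g := Spec.map (CommRingCat.ofHom (algebraMap (IsLocalRing.ResidueField A)
      (AlgebraicClosure (IsLocalRing.ResidueField A))))
  let fk := pullback.snd f (residuePt A)
  let z := pullback.fst f (residuePt A)
  let e := pullbackLeftPullbackSndIso f (residuePt A) g
  haveI : IsProper fk := MorphismProperty.pullback_snd _ _ ‹IsProper f›
  haveI : CompactSpace ↥(pullback f (residuePt A)) := QuasiCompact.compactSpace_of_compactSpace fk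
  haveI : QuasiSeparatedSpace ↥(pullback f (residuePt A)) := quasiSeparatedSpace_of_quasiSeparated fk
  haveI : ConnectedSpace ↥(pullback fk g) := e.inv.surjective.connectedSpace e.inv.continuous
  have he : e.hom ≫ pullback.fst f (g ≫ residuePt A) = pullback.fst fk g ≫ z :=
    pullbackLeftPullbackSndIso_hom_fst _ _ _
  let W := (FEt.restrict z).obj X'
  let τ : pullback fk g ⟶ W.left := pullback.lift (e.hom ≫ σ) (pullback.fst fk g)
    (by rw [Category.assoc, hσ]; exact he)
  -- the closed fibre of the cover is connected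
  haveI : IsClosedImmersion (residuePt A) :=
    IsClosedImmersion.spec_of_surjective _ IsLocalRing.residue_surjective
  haveI : IsClosedImmersion z := MorphismProperty.pullback_fst _ _ inferInstance
  haveI : IsClosedImmersion (pullback.fst X'.hom z) := MorphismProperty.pullback_fst _ _ inferInstance
  haveI : IsFinite X'.hom := X'.prop.1
  have hcl : HensPair.ClopenBij (pullback.fst X'.hom z).base := by
    refine HensPair.clopenBij_of_range CohFin.projFinite (IsLocalRing.maximalIdeal A) (X'.hom ≫ f)
      (pullback.fst X'.hom z).isClosedEmbedding.isEmbedding ?_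
    rw [show HensPair.overV (X'.hom ≫ f) (IsLocalRing.maximalIdeal A) =
      X'.hom.base ⁻¹' HensPair.overV f (IsLocalRing.maximalIdeal A) from rfl,
      ← HensPair.range_pullback_fst_mk (IsLocalRing.maximalIdeal A) f]
    exact Scheme.Pullback.range_fst X'.hom z
  haveI : ConnectedSpace ↥W.left := by
    haveI : PreconnectedSpace ↥W.left := preconnectedSpace_iff_clopen.2 fun V hV => by
      obtain ⟨U', ⟨hU', hUV⟩, -⟩ := hcl V hV
      haveI : PreconnectedSpace ↥((𝟭 Scheme).obj X'.left) := inferInstanceAs (PreconnectedSpace ↥X'.left)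
      rcases isClopen_iff.1 hU' with h | h
      · left; rw [← hUV, h]; rfl
      · right; rw [← hUV, h]; rfl
    exact @ConnectedSpace.mk _ _ ‹PreconnectedSpace ↥W.left› ⟨τ.base (Classical.arbitrary _)⟩
  obtain ⟨S', ⟨φ⟩⟩ := Groth.Agent.S5117.result (IsLocalRing.ResidueField A) fk W τ (pullback.lift_snd _ _ _)
  -- lift the cover of the closed point
  let s₁ := pullback.fst (𝟙 (Spec (CommRingCat.of A))) (residuePt A)
  let s₂ := pullback.snd (𝟙 (Spec (CommRingCat.of A))) (residuePt A)
  haveI := essSurj_restrict_residue (𝟙 (Spec (CommRingCat.of A)))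
  let T := (FEt.restrict s₁).objPreimage ((FEt.restrict s₂).obj S')
  have hs : s₂ ≫ residuePt A = s₁ := pullback.condition.symm.trans (Category.comp_id _)
  let φT : (FEt.restrict (residuePt A)).obj T ≅ S' := (FEt.restrict s₂).preimageIso
    ((Pi1FEt.restrictCompIso _ _).symm.app T ≪≫ (Pi1FEt.restrictCongr hs).app T ≪≫
      (FEt.restrict s₁).objObjPreimageIso _)
  obtain ⟨hfull, hfaith⟩ := fullyFaithful_residue f
  haveI := hfull; haveI := hfaith
  refine ⟨T, ⟨(FEt.restrict z).preimageIso ?_⟩⟩
  exact (Pi1FEt.restrictCompIso z f).symm.app T ≪≫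
    (Pi1FEt.restrictCongr (pullback.condition : z ≫ f = fk ≫ residuePt A)).app T ≪≫
    (Pi1FEt.restrictCompIso fk (residuePt A)).app T ≪≫ (FEt.restrict fk).mapIso φT ≪≫ φ

end Groth.FormalAlg
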