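import Groth.Agent.FormalAlg.Sections
import Mathlib

/-!
# Morphisms which are isomorphisms on all thickenings of the closed fibre
-/

universe u

open CategoryTheory CategoryTheory.Limits AlgebraicGeometry Opposite TopologicalSpace

set_option autoImplicit false
set_option backward.isDefEq.respectTransparency false
set_option linter.style.haveILetI false

noncomputable section

namespace Groth.FormalAlg

variable {A : Type u} [CommRing A] {I : Ideal A}

/-- Sections in the ideal generated by `J` vanish on the points lying over `V(J)`. -/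
theorem notMem_basicOpen_of_mem_map {X : Scheme.{u}} (f : X ⟶ Spec (CommRingCat.of A)) {J : Ideal A}
    {U : X.Opens} (hU : IsAffineOpen U) {z : Γ(X, U)} (hz : z ∈ J.map (baseHom f U)) {x : X} (hx : x ∈ U)
    (hJ : J ≤ (f.base x).asIdeal) : x ∉ X.basicOpen z := by
  intro hxz
  obtain ⟨P, hP⟩ : x ∈ Set.range hU.fromSpec.base := by rw [hU.range_fromSpec]; exact hx
  have hP' : P ∈ hU.fromSpec ⁻¹ᵁ X.basicOpen z := by
    show hU.fromSpec.base P ∈ X.basicOpen z; rw [hP]; exact hxz
  rw [hU.fromSpec_preimage_basicOpen] at hP'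
  refine hP' ((Ideal.map_le_iff_le_comap.2 fun a ha => ?_) hz)
  have h1 : f.base (hU.fromSpec.base P) = f.base x := by rw [hP]
  rw [← Scheme.Hom.comp_apply, fromSpec_comp] at h1
  exact (congrArg PrimeSpectrum.asIdeal h1).ge (hJ ha)

theorem mem_basicOpen_of_sub_one_mem {X : Scheme.{u}} (f : X ⟶ Spec (CommRingCat.of A)) {J : Ideal A}
    {U : X.Opens} (hU : IsAffineOpen U) {r : Γ(X, U)} (hr : r - 1 ∈ J.map (baseHom f U)) {x : X} (hx : x ∈ U)
    (hJ : J ≤ (f.base x).asIdeal) : x ∈ X.basicOpen r := by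
  by_contra hxr
  have hnu : ¬ IsUnit ((X.presheaf.germ U x hx).hom r) := fun h => hxr ((X.toRingedSpace.mem_basicOpen r x hx).2 h)
  refine notMem_basicOpen_of_mem_map f hU hr hx hJ ((X.toRingedSpace.mem_basicOpen _ x hx).2 ?_)
  show IsUnit ((X.presheaf.germ U x hx).hom (r - 1))
  rw [map_sub, map_one, IsUnit.sub_iff]
  exact IsLocalRing.isUnit_one_sub_self_of_mem_nonunits _ hnu

/-- An open containing the closed fibre is everything, for a universally closed scheme over a
complete base. -/
theorem opens_eq_top_of_closedFibre [IsAdicComplete I A] {X : Scheme.{u}} (f : X ⟶ Spec (CommRingCat.of A))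
    [UniversallyClosed f] (U : X.Opens) (hU : ∀ x : X, I ≤ (f.base x).asIdeal → x ∈ U) : U = ⊤ := by
  refine top_le_iff.1 fun x₀ _ => ?_
  by_contra hx₀
  obtain ⟨𝔪, h𝔪, hle⟩ := Ideal.exists_le_maximal (f.base x₀).asIdeal (f.base x₀).isPrime.ne_top
  obtain ⟨x, hx, hw⟩ : (⟨𝔪, h𝔪.isPrime⟩ : PrimeSpectrum A) ∈ f.base '' (U : Set X)ᶜ :=
    ((PrimeSpectrum.le_iff_specializes _ _).1 hle).mem_closed
      (f.isClosedMap _ U.isOpen.isClosed_compl) ⟨x₀, hx₀, rfl⟩
  exact hx (hU x (by
    rw [hw]
    exact (IsAdicComplete.le_jacobson_bot I).trans (sInf_le ⟨bot_le, h𝔪⟩)))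

/-- The image of a thickening is the locus over `V(I)`. -/
theorem mem_range_thickι {X : Scheme.{u}} (f : X ⟶ Spec (CommRingCat.of A)) (n : ℕ) (x : X) :
    x ∈ Set.range (CohB1.thickι f I n).base ↔ I ≤ (f.base x).asIdeal := by
  rw [show Set.range (CohB1.thickι f I n).base = f.base ⁻¹' Set.range (CohB1.specQuot I n).base from
    Scheme.Pullback.range_fst _ _]
  show f.base x ∈ Set.range (PrimeSpectrum.comap (Ideal.Quotient.mk (I ^ (n + 1)))) ↔ _
  rw [range_comap_of_surjective _ _ Ideal.Quotient.mk_surjective, Ideal.mk_ker,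
    PrimeSpectrum.mem_zeroLocus]
  show I ^ (n + 1) ≤ (f.base x).asIdeal ↔ _
  exact (f.base x).isPrime.pow_le_iff (Nat.succ_ne_zero n)

set_option maxHeartbeats 800000 in
/-- A morphism between proper schemes over a complete Noetherian base which is an isomorphism on every
thickening of the closed fibre is an isomorphism. -/
theorem isIso_of_levels [IsNoetherianRing A] [IsAdicComplete I A] {X W : Scheme.{u}}
    (f : X ⟶ Spec (CommRingCat.of A)) (π : W ⟶ X) [IsProper f] [IsProper π]
    (w : ∀ n, CohB1.thick f I n ⟶ W) (hw : ∀ n, w n ≫ π = CohB1.thickι f I n)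
    (hpb : ∀ n, IsPullback (w n) (CohB1.thickToBase f I n) (π ≫ f) (CohB1.specQuot I n)) : IsIso π := by
  -- the fibres over the closed fibre are points, so `π` is finite
  have hqf : ∀ y : W, I ≤ ((π ≫ f).base y).asIdeal → π.QuasiFiniteAt y := by
    intro y hy
    have hsurj : ∀ y' : W, I ≤ ((π ≫ f).base y').asIdeal → y' ∈ Set.range (w 0).base := by
      intro y' hy'
      rw [← mem_range_thickι (π ≫ f) 0, CohB1.thickι] at hy'
      rw [show w 0 = (hpb 0).isoPullback.hom ≫ pullback.fst _ _ from ((hpb 0).isoPullback_hom_fst).symm]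
      obtain ⟨z, hz⟩ := hy'
      exact ⟨(hpb 0).isoPullback.inv.base z, by
        rw [← Scheme.Hom.comp_apply, Iso.inv_hom_id_assoc]; exact hz⟩
    rw [Scheme.Hom.quasiFiniteAt_iff_isOpen_singleton_asFiber]
    haveI : Subsingleton ↥(π.fiber (π y)) := ⟨fun a b => by
      refine (π.fiberι (π y)).isEmbedding.injective ?_
      have hmem : ∀ c : ↥(π.fiber (π y)), π.base ((π.fiberι (π y)).base c) = π.base y := fun c =>
        (π.range_fiberι (π y)).le ⟨c, rfl⟩
      have hI : ∀ c : ↥(π.fiber (π y)), I ≤ ((π ≫ f).base ((π.fiberι (π y)).base c)).asIdeal := fun c => by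
        rw [Scheme.Hom.comp_apply, hmem c]; exact hy
      obtain ⟨a', ha'⟩ := hsurj _ (hI a)
      obtain ⟨b', hb'⟩ := hsurj _ (hI b)
      have : (CohB1.thickι f I 0).base a' = (CohB1.thickι f I 0).base b' := by
        rw [← hw 0, Scheme.Hom.comp_apply, Scheme.Hom.comp_apply, ha', hb', hmem a, hmem b]
      rw [← ha', ← hb', (CohB1.thickι f I 0).isClosedEmbedding.injective this]⟩
    exact isOpen_discrete _
  haveI : LocallyQuasiFinite π := by
    have htop : π.quasiFiniteLocus = ⊤ :=
      opens_eq_top_of_closedFibre (π ≫ f) _ fun y hy => Scheme.Hom.mem_quasiFiniteLocus.2 (hqf y hy)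
    rw [locallyQuasiFinite_iff_isDiscrete_preimage_singleton]
    intro x
    rw [← π.range_fiberι x, isDiscrete_iff_discreteTopology]
    have key : ∀ (y : W) (x' : X), π.base y = x' → ∀ c : ↥(π.fiber x'), (π.fiberι x').base c = y → IsOpen {c} := by
      rintro y _ rfl c hc
      have h := Scheme.Hom.quasiFiniteAt_iff_isOpen_singleton_asFiber.1
        (Scheme.Hom.mem_quasiFiniteLocus.1 (htop.ge (trivial : y ∈ ⊤)))
      rwa [show π.asFiber y = c from (π.fiberι _).isEmbedding.injective ((π.fiberι_asFiber _).trans hc.symm)] at h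
    haveI : DiscreteTopology ↥(π.fiber x) := discreteTopology_iff_isOpen_singleton.2 fun c =>
      key _ x ((π.range_fiberι x).le ⟨c, rfl⟩) c rfl
    exact (π.fiberι x).isEmbedding.toHomeomorph.discreteTopology
  haveI : IsFinite π := (IsFinite.iff_isProper_and_locallyQuasiFinite π).2 ⟨inferInstance, inferInstance⟩
  haveI : IsLocallyNoetherian X := LocallyOfFiniteType.isLocallyNoetherian f
  -- on each affine open, `π` is an isomorphism near the closed fibre
  let G : Set X.Opens := {D | IsAffineOpen D ∧ IsIso (π ∣_ D)}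
  have hG : ∀ x : X, I ≤ (f.base x).asIdeal → x ∈ sSup G := by
    intro x hx
    obtain ⟨_, ⟨U, hU, rfl⟩, hxU, -⟩ :=
      X.isBasis_affineOpens.exists_subset_of_mem_open (Set.mem_univ x) isOpen_univ
    haveI : IsNoetherianRing Γ(X, U) := IsLocallyNoetherian.component_noetherian ⟨U, hU⟩
    letI : Algebra Γ(X, U) Γ(W, π ⁻¹ᵁ U) := (π.app U).hom.toAlgebra
    haveI : Module.Finite Γ(X, U) Γ(W, π ⁻¹ᵁ U) := IsFinite.finite_app π U hU
    set φ := Algebra.linearMap Γ(X, U) Γ(W, π ⁻¹ᵁ U)
    have hX := fun n => sections_of_isPullback (CohB1.thickι f I n) f (I ^ (n + 1)) (CohB1.thickToBase f I n)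
      (IsPullback.of_hasPullback f (CohB1.specQuot I n)) hU
    have hW := fun n => sections_of_isPullback (w n) (π ≫ f) (I ^ (n + 1)) (CohB1.thickToBase f I n) (hpb n)
      (hU.preimage π)
    have hcomp : ∀ n, ∃ e : Γ(CohB1.thick f I n, w n ⁻¹ᵁ π ⁻¹ᵁ U) →+* Γ(CohB1.thick f I n, CohB1.thickι f I n ⁻¹ᵁ U),
        Function.Bijective e ∧ ∀ a, ((CohB1.thickι f I n).app U).hom a = e (((w n).app (π ⁻¹ᵁ U)).hom ((π.app U).hom a)) := by
      intro n
      have h := Scheme.Hom.congr_app (hw n).symm U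
      rw [Scheme.Hom.comp_app, Category.assoc] at h
      exact ⟨_, ConcreteCategory.bijective_of_isIso _, fun a => congrArg (fun ψ => ψ a) (congrArg CommRingCat.Hom.hom h)⟩
    -- cokernel
    obtain ⟨r₁, hr₁, hr₁0⟩ := Submodule.exists_sub_one_mem_and_smul_eq_zero_of_fg_of_le_smul
      (I.map (baseHom f U)) (⊤ : Submodule Γ(X, U) (Γ(W, π ⁻¹ᵁ U) ⧸ LinearMap.range φ)) Module.Finite.fg_top
      (by
        intro q _
        obtain ⟨y, rfl⟩ := Submodule.mkQ_surjective _ q
        obtain ⟨e, he, hea⟩ := hcomp 0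
        obtain ⟨a, ha⟩ := (hX 0).1 (e (((w 0).app (π ⁻¹ᵁ U)).hom y))
        rw [hea] at ha
        have hk : y - φ a ∈ (I.map (baseHom f U)) • (⊤ : Submodule Γ(X, U) Γ(W, π ⁻¹ᵁ U)) := by
          rw [Ideal.smul_top_eq_map, Submodule.restrictScalars_mem]
          have h0 : y - φ a ∈ RingHom.ker ((w 0).app (π ⁻¹ᵁ U)).hom := by
            rw [RingHom.mem_ker, map_sub, sub_eq_zero]
            exact (he.1 ha).symm
          rw [(hW 0).2, pow_one, baseHom_comp, ← Ideal.map_map] at h0
          exact h0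
        have : Submodule.mkQ (LinearMap.range φ) y = Submodule.mkQ _ (y - φ a) := by
          rw [map_sub, sub_eq_self.2]
          exact (Submodule.Quotient.mk_eq_zero _).2 ⟨a, rfl⟩
        rw [this]
        have := Submodule.mem_map_of_mem (f := Submodule.mkQ (LinearMap.range φ)) hk
        rw [Submodule.map_smul''] at this
        exact Submodule.smul_mono le_rfl le_top this)
    -- kernel
    have hker : LinearMap.ker φ ≤ ⨅ n : ℕ, (I.map (baseHom f U)) ^ n := by
      refine le_iInf fun n a ha => Ideal.pow_le_pow_right (Nat.le_succ n) ?_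
      rw [← Ideal.map_pow, ← (hX n).2, RingHom.mem_ker]
      obtain ⟨e, -, hea⟩ := hcomp n
      rw [hea, show (π.app U).hom a = 0 from ha, map_zero, map_zero]
    obtain ⟨r₂, hr₂, hr₂0⟩ := Submodule.exists_sub_one_mem_and_smul_eq_zero_of_fg_of_le_smul
      (I.map (baseHom f U)) (LinearMap.ker φ) (IsNoetherian.noetherian _)
      (by
        intro a ha
        have h1 : a ∈ ⨅ n : ℕ, (I.map (baseHom f U)) ^ n • (⊤ : Submodule Γ(X, U) Γ(X, U)) := by
          simp only [smul_eq_mul, Ideal.mul_top]; exact hker ha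
        obtain ⟨⟨r, hr⟩, hra⟩ := (Ideal.mem_iInf_smul_pow_eq_bot_iff _ a).1 h1
        rw [← hra]
        exact Submodule.smul_mem_smul hr ha)
    set r := r₁ * r₂
    refine TopologicalSpace.Opens.mem_sSup.2 ⟨X.basicOpen r, ⟨hU.basicOpen r, ?_⟩, ?_⟩
    · rw [isIso_morphismRestrict_iff_isIso_app π (hU.basicOpen r), ConcreteCategory.isIso_iff_bijective]
      set res := (X.presheaf.map (homOfLE (X.basicOpen_le r)).op).hom
      set resW := (W.presheaf.map (homOfLE (π.preimage_mono (X.basicOpen_le r))).op).hom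
      have hnat : ∀ a, (π.app (X.basicOpen r)).hom (res a) = resW ((π.app U).hom a) := fun a =>
        congrArg (fun ψ => ψ a) (congrArg CommRingCat.Hom.hom (π.naturality (homOfLE (X.basicOpen_le r)).op))
      haveI hLX := hU.isLocalization_basicOpen r
      have hW' : ∀ z : Γ(W, π ⁻¹ᵁ X.basicOpen r), ∃ (y : Γ(W, π ⁻¹ᵁ U)) (k : ℕ),
          z * resW ((π.app U).hom r) ^ k = resW y := by
        intro z
        haveI := (hU.preimage π).isLocalization_of_eq_basicOpen ((π.app U).hom r)
          (homOfLE (π.preimage_mono (X.basicOpen_le r))) (Scheme.preimage_basicOpen π r)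
        letI : Algebra Γ(W, π ⁻¹ᵁ U) Γ(W, π ⁻¹ᵁ X.basicOpen r) := resW.toAlgebra
        obtain ⟨k, y, hy⟩ := IsLocalization.Away.surj ((π.app U).hom r) z
        exact ⟨y, k, hy⟩
      have hu : IsUnit (res r) := RingedSpace.isUnit_res_basicOpen X.toRingedSpace r
      constructor
      · rw [injective_iff_map_eq_zero]
        intro z hz
        obtain ⟨k, a, ha⟩ := IsLocalization.Away.surj r z
        have h1 : resW ((π.app U).hom a) = 0 := by
          rw [← hnat]
          show (π.app (X.basicOpen r)).hom (algebraMap Γ(X, U) Γ(X, X.basicOpen r) a) = 0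
          rw [← ha, map_mul, hz, zero_mul]
        obtain ⟨j, hj⟩ : ∃ j : ℕ, ((π.app U).hom r) ^ j * (π.app U).hom a = 0 := by
          haveI := (hU.preimage π).isLocalization_of_eq_basicOpen ((π.app U).hom r)
            (homOfLE (π.preimage_mono (X.basicOpen_le r))) (Scheme.preimage_basicOpen π r)
          letI : Algebra Γ(W, π ⁻¹ᵁ U) Γ(W, π ⁻¹ᵁ X.basicOpen r) := resW.toAlgebra
          obtain ⟨⟨_, j, rfl⟩, hj⟩ := (IsLocalization.map_eq_zero_iff (Submonoid.powers ((π.app U).hom r))
            Γ(W, π ⁻¹ᵁ X.basicOpen r) _).1 h1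
          exact ⟨j, hj⟩
        have h2 : r₂ • (r ^ j * a) = 0 := hr₂0 _ (by
          show (π.app U).hom (r ^ j * a) = 0
          rw [map_mul, map_pow, hj])
        have h3 : r ^ (j + 1) * a = 0 := by
          rw [pow_succ', show r = r₁ * r₂ from rfl, mul_assoc, mul_assoc]
          rw [smul_eq_mul] at h2
          rw [h2, mul_zero]
        have h4 : res r ^ (j + 1) * (z * res r ^ k) = 0 := by
          show (algebraMap Γ(X, U) Γ(X, X.basicOpen r) r) ^ (j + 1) * (z * (algebraMap Γ(X, U) Γ(X, X.basicOpen r) r) ^ k) = 0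
          rw [ha, ← map_pow, ← map_mul, h3, map_zero]
        exact (hu.pow k).mul_left_eq_zero.1 ((hu.pow (j + 1)).mul_right_eq_zero.1 h4)
      · intro z
        obtain ⟨y, k, hy⟩ := hW' z
        obtain ⟨a, ha⟩ : ∃ a, (π.app U).hom a = r₁ • y := by
          have := hr₁0 (Submodule.Quotient.mk y) trivial
          rw [← Submodule.Quotient.mk_smul, Submodule.Quotient.mk_eq_zero] at this
          exact this
        have ha' : (π.app U).hom (r₂ * a) = (π.app U).hom r * y := by
          rw [map_mul, ha, Algebra.smul_def, show r = r₁ * r₂ from rfl, map_mul]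
          show _ * ((π.app U).hom r₁ * y) = _
          ring
        refine ⟨res (r₂ * a) * (↑(hu.pow (k + 1)).unit⁻¹), ?_⟩
        have hu' : IsUnit (resW ((π.app U).hom r)) := by rw [← hnat]; exact hu.map _
        refine (hu'.pow (k + 1)).mul_left_injective ?_
        show _ * _ = _ * _
        rw [map_mul, hnat, ha', map_mul, ← hy, mul_assoc]
        have : (π.app (X.basicOpen r)).hom ↑(hu.pow (k + 1)).unit⁻¹ * resW ((π.app U).hom r) ^ (k + 1) = 1 := by
          obtain ⟨v, hv⟩ : ∃ v, v = (hu.pow (k + 1)).unit := ⟨_, rfl⟩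
          have hvi : (↑v⁻¹ : Γ(X, X.basicOpen r)) * res r ^ (k + 1) = 1 := by
            rw [hv]; exact (hu.pow (k + 1)).val_inv_mul
          rw [← hv, ← hnat, ← map_pow, ← map_mul, hvi, map_one]
        rw [this, mul_one, mul_comm, mul_assoc, ← pow_succ]
    · rw [X.basicOpen_mul]
      exact ⟨mem_basicOpen_of_sub_one_mem f hU hr₁ hxU hx, mem_basicOpen_of_sub_one_mem f hU hr₂ hxU hx⟩
  have htop : iSup (fun D : G => (D.1 : X.Opens)) = ⊤ := by
    rw [← sSup_eq_iSup']
    exact opens_eq_top_of_closedFibre f _ hG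
  exact (IsZariskiLocalAtTarget.iff_of_iSup_eq_top (P := MorphismProperty.isomorphisms Scheme) _ htop).2
    fun D => D.2.2

end Groth.FormalAlg
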