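import Groth.Agent.AlgSpFppf.SliceScheme
import Groth.Agent.CohC3.Smul
import Groth.Prelude.Def_CohB1
import Mathlib

/-!
# Base change of a scheme over `Spec A` along `Spec (A/J) ⟶ Spec A`, on sections
-/

universe u

open CategoryTheory CategoryTheory.Limits AlgebraicGeometry Opposite

set_option autoImplicit false
set_option backward.isDefEq.respectTransparency false

namespace Groth.FormalAlg

variable {A : Type u} [CommRing A]

/-- The map `A → Γ(Y, U)` of a scheme over `Spec A`. -/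
noncomputable def baseHom {Y : Scheme.{u}} (g : Y ⟶ Spec (CommRingCat.of A)) (U : Y.Opens) :
    A →+* Γ(Y, U) :=
  ((Scheme.ΓSpecIso (CommRingCat.of A)).inv ≫ g.appLE ⊤ U le_top).hom

theorem baseHom_eq_baseApp {Y : Scheme.{u}} [Y.Over (Spec (CommRingCat.of A))] (U : Y.Opens) :
    baseHom (Y ↘ Spec (CommRingCat.of A)) U = CohC3.baseApp Y U := by
  ext a
  rfl

theorem baseHom_comp {Y Y' : Scheme.{u}} (t : Y ⟶ Y') (g : Y' ⟶ Spec (CommRingCat.of A)) (U : Y'.Opens) :
    baseHom (t ≫ g) (t ⁻¹ᵁ U) = (t.app U).hom.comp (baseHom g U) := by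
  rw [baseHom, baseHom, ← CommRingCat.hom_comp, Category.assoc, Scheme.Hom.app_eq_appLE,
    Scheme.Hom.appLE_comp_appLE]

theorem fromSpec_comp {Y : Scheme.{u}} (g : Y ⟶ Spec (CommRingCat.of A)) {U : Y.Opens} (hU : IsAffineOpen U) :
    hU.fromSpec ≫ g = Spec.map (CommRingCat.ofHom (baseHom g U)) := by
  rw [← IsAffineOpen.SpecMap_appLE_fromSpec g (isAffineOpen_top _) hU le_top, IsAffineOpen.fromSpec_top,
    Scheme.isoSpec_Spec_inv, ← Spec.map_comp]
  rfl

/-- Sections of `Y ×_A A/J` over an affine open of `Y`. -/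
theorem sections_of_isPullback {Y Y' : Scheme.{u}} (t : Y ⟶ Y') (g : Y' ⟶ Spec (CommRingCat.of A))
    (J : Ideal A) (q : Y ⟶ Spec (CommRingCat.of (A ⧸ J)))
    (h : IsPullback t q g (Spec.map (CommRingCat.ofHom (Ideal.Quotient.mk J))))
    {U : Y'.Opens} (hU : IsAffineOpen U) :
    Function.Surjective (t.app U).hom ∧ RingHom.ker (t.app U).hom = J.map (baseHom g U) := by
  set R := Γ(Y', U)
  set K : Ideal R := J.map (baseHom g U) with hK
  have hpo := Groth.AlgSpFppf.isPushout_quotient (CommRingCat.ofHom (baseHom g U)) J K hK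
  have hpb := (isPullback_SpecMap_of_isPushout _ _ _ _ hpo).flip
  let m : Spec (CommRingCat.of (R ⧸ K)) ⟶ Spec R := Spec.map (CommRingCat.ofHom (Ideal.Quotient.mk K))
  obtain ⟨p₂, hp₂⟩ : ∃ p₂, IsPullback m p₂ (hU.fromSpec ≫ g) (Spec.map (CommRingCat.ofHom (Ideal.Quotient.mk J))) := by
    rw [fromSpec_comp]
    first
      | exact ⟨_, hpb⟩
      | exact ⟨_, hpb.flip⟩
  let e : Spec (CommRingCat.of (R ⧸ K)) ⟶ Y := h.lift (m ≫ hU.fromSpec) p₂ (by rw [Category.assoc, hp₂.w])
  have het : e ≫ t = m ≫ hU.fromSpec := h.lift_fst _ _ _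
  have sq : IsPullback e m t hU.fromSpec := by
    refine IsPullback.of_right ?_ het h.flip
    rw [h.lift_snd]
    exact hp₂.flip
  haveI : IsOpenImmersion e := MorphismProperty.of_isPullback sq.flip inferInstance
  have hrange : e.opensRange = t ⁻¹ᵁ U := by
    apply TopologicalSpace.Opens.ext
    show Set.range e.base = t.base ⁻¹' (U : Set Y')
    rw [← hU.range_fromSpec]
    ext y
    constructor
    · rintro ⟨z, rfl⟩
      exact ⟨m.base z, by rw [← Scheme.Hom.comp_apply, ← het, Scheme.Hom.comp_apply]⟩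
    · rintro ⟨w, hw⟩
      obtain ⟨z, hz, -⟩ := Scheme.Pullback.exists_preimage_pullback (f := t) (g := hU.fromSpec) y w hw.symm
      exact ⟨sq.isoPullback.inv.base z, by
        rw [← Scheme.Hom.comp_apply, sq.isoPullback_inv_fst]; exact hz⟩
  haveI hiso : IsIso (e.app (t ⁻¹ᵁ U)) := Scheme.Hom.isIso_app _ _ hrange.ge
  have hcomp : (e ≫ t).app U = t.app U ≫ e.app (t ⁻¹ᵁ U) := Scheme.Hom.comp_app _ _ _
  -- the composite is the quotient map
  have hsurj : Function.Surjective ((e ≫ t).app U).hom ∧ RingHom.ker ((e ≫ t).app U).hom = K := by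
    obtain ⟨c, hc, hbij⟩ : ∃ c : (R ⧸ K) →+* Γ(Spec (CommRingCat.of (R ⧸ K)), (e ≫ t) ⁻¹ᵁ U),
        ((e ≫ t).app U).hom = c.comp (Ideal.Quotient.mk K) ∧ Function.Bijective c := by
      rw [Scheme.Hom.congr_app het U, Scheme.Hom.comp_app, hU.fromSpec_app_self]
      simp only [Category.assoc]
      rw [Scheme.Hom.naturality_assoc, ← Scheme.Hom.appTop, ← Functor.map_comp]
      refine ⟨((Scheme.ΓSpecIso (CommRingCat.of (R ⧸ K))).inv ≫
        (Spec (CommRingCat.of (R ⧸ K))).presheaf.map ?_).hom, ?_, ?_⟩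
      rotate_left
      · rw [show m.appTop = (Spec.map (CommRingCat.ofHom (Ideal.Quotient.mk K))).appTop from rfl,
          ← Scheme.ΓSpecIso_inv_naturality_assoc]
        rfl
      · haveI : (e ≫ t) ⁻¹ᵁ U = ⊤ := by rw [het, Scheme.Hom.comp_preimage, hU.fromSpec_preimage_self, Scheme.Hom.preimage_top]
        exact ConcreteCategory.bijective_of_isIso _
    refine ⟨by rw [hc]; exact hbij.2.comp Ideal.Quotient.mk_surjective, ?_⟩
    rw [hc, RingHom.ker_comp_of_injective _ hbij.1, Ideal.mk_ker]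
  rw [hcomp, CommRingCat.hom_comp] at hsurj
  have hb : Function.Bijective (e.app (t ⁻¹ᵁ U)).hom := ConcreteCategory.bijective_of_isIso _
  refine ⟨fun y => ?_, ?_⟩
  · obtain ⟨x, hx⟩ := hsurj.1 ((e.app (t ⁻¹ᵁ U)).hom y)
    exact ⟨x, hb.1 hx⟩
  · rw [← hsurj.2, RingHom.ker_comp_of_injective _ hb.1]

/-- A monomorphism through which one leg of a pullback square factors. -/
theorem isPullback_of_mono {Z P X S T : Scheme.{u}} {c : Z ⟶ P} {m : P ⟶ X} [Mono m] {a : Z ⟶ X} {b : Z ⟶ T}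
    {f : X ⟶ S} {g : T ⟶ S} (hc : c ≫ m = a) (h : IsPullback a b f g) : IsPullback c b (m ≫ f) g := by
  refine ⟨⟨by rw [reassoc_of% hc, h.w]⟩, ⟨PullbackCone.IsLimit.mk _
    (fun s => h.lift (s.fst ≫ m) s.snd (by rw [Category.assoc]; exact s.condition))
    (fun s => by rw [← cancel_mono m, Category.assoc, hc, h.lift_fst])
    (fun s => h.lift_snd _ _ _)
    (fun s r h1 h2 => h.hom_ext (by rw [h.lift_fst, ← hc, reassoc_of% h1])
      (by rw [h.lift_snd]; exact h2))⟩⟩

instance isClosedImmersion_thickι {X : Scheme.{u}} (f : X ⟶ Spec (CommRingCat.of A)) (I : Ideal A) (n : ℕ) :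
    IsClosedImmersion (CohB1.thickι f I n) := by
  haveI : IsClosedImmersion (CohB1.specQuot I n) :=
    IsClosedImmersion.spec_of_surjective _ Ideal.Quotient.mk_surjective
  exact MorphismProperty.pullback_fst _ _ inferInstance

theorem thickTrans_ι {X : Scheme.{u}} (f : X ⟶ Spec (CommRingCat.of A)) (I : Ideal A) (n : ℕ) :
    CohB1.thickTrans f I n ≫ CohB1.thickι f I (n + 1) = CohB1.thickι f I n := by
  simp [CohB1.thickTrans, CohB1.thickι]

theorem isPullback_thickTrans {X : Scheme.{u}} (f : X ⟶ Spec (CommRingCat.of A)) (I : Ideal A) (n : ℕ) :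
    IsPullback (CohB1.thickTrans f I n) (CohB1.thickToBase f I n) (CohB1.thickι f I (n + 1) ≫ f)
      (CohB1.specQuot I n) :=
  isPullback_of_mono (thickTrans_ι f I n) (IsPullback.of_hasPullback f (CohB1.specQuot I n))

end Groth.FormalAlg
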