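import Groth.Agent.FormalAlg.Sections
import Groth.Agent.QCohMod.QCAlgSub
import Groth.Agent.QCohMod.FTCriterion
import Groth.Agent.CohC3.ExistenceProperSupport
import Groth.Prelude.Def_AffAlg
import Mathlib

/-!
# Formal finite schemes over `X` and their coherent formal modules
-/

universe u

open CategoryTheory CategoryTheory.Limits AlgebraicGeometry Opposite RelSpec

set_option autoImplicit false
set_option backward.isDefEq.respectTransparency false

noncomputable section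

namespace Groth.FormalAlg

variable {A : Type u} [CommRing A] {X : Scheme.{u}}

/-- A formal scheme finite over `X`, as the system of its thickenings. -/
structure Data (f : X ⟶ Spec (CommRingCat.of A)) (I : Ideal A) where
  Y : ℕ → Scheme.{u}
  p : ∀ n, Y n ⟶ X
  t : ∀ n, Y n ⟶ Y (n + 1)
  ht : ∀ n, t n ≫ p (n + 1) = p n
  fin : ∀ n, IsFinite (p n)
  q : ∀ n, Y n ⟶ Spec (CommRingCat.of (A ⧸ I ^ (n + 1)))
  cart : ∀ n, IsPullback (t n) (q n) (p (n + 1) ≫ f) (CohB1.specQuot I n)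

variable {f : X ⟶ Spec (CommRingCat.of A)} {I : Ideal A} (D : Data f I)

instance (n : ℕ) : IsFinite (D.p n) := D.fin n

/-- The data attached to finite morphisms over the thickenings with cartesian transition squares. -/
def Data.ofThick (Y : ℕ → Scheme.{u}) (y : (n : ℕ) → (Y n ⟶ CohB1.thick f I n))
    (t : (n : ℕ) → (Y n ⟶ Y (n + 1))) (hy : ∀ n, IsFinite (y n))
    (ht : ∀ n, IsPullback (t n) (y n) (y (n + 1)) (CohB1.thickTrans f I n)) : Data f I where
  Y := Y
  p n := y n ≫ CohB1.thickι f I n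
  t := t
  ht n := by rw [reassoc_of% (ht n).w, thickTrans_ι]
  fin n := by haveI := hy n; infer_instance
  q n := y n ≫ CohB1.thickToBase f I n
  cart n := by rw [Category.assoc]; exact (ht n).paste_vert (isPullback_thickTrans f I n)

theorem Data.comm (n : ℕ) : D.p n ≫ f = D.q n ≫ CohB1.specQuot I n := by
  rw [← (D.cart n).w, reassoc_of% (D.ht n)]

/-- The base ring map of a thickening kills the power of the ideal. -/
theorem Data.baseHom_eq_zero {n : ℕ} {a : A} (ha : a ∈ I ^ (n + 1)) :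
    baseHom (D.p n ≫ f) ⊤ a = 0 := by
  have h0 : baseHom (CohB1.specQuot I n) ⊤ a = 0 := by
    have : (Scheme.ΓSpecIso (CommRingCat.of A)).inv ≫ (CohB1.specQuot I n).appTop =
        CommRingCat.ofHom (Ideal.Quotient.mk (I ^ (n + 1))) ≫ (Scheme.ΓSpecIso _).inv :=
      (Scheme.ΓSpecIso_inv_naturality _).symm
    rw [baseHom, show (CohB1.specQuot I n).appLE ⊤ ⊤ le_top = (CohB1.specQuot I n).appTop by
      rw [Scheme.Hom.appTop, Scheme.Hom.app_eq_appLE]; rfl, this]
    show (Scheme.ΓSpecIso (CommRingCat.of (A ⧸ I ^ (n + 1)))).inv.hom (Ideal.Quotient.mk (I ^ (n + 1)) a) = 0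
    rw [Ideal.Quotient.eq_zero_iff_mem.2 ha, map_zero]
  rw [D.comm n, show (⊤ : (D.Y n).Opens) = D.q n ⁻¹ᵁ ⊤ from rfl, baseHom_comp, RingHom.comp_apply, h0, map_zero]

theorem baseHom_res {Y : Scheme.{u}} (g : Y ⟶ Spec (CommRingCat.of A)) (U : Y.Opens) (a : A) :
    baseHom g U a = (Y.presheaf.map (homOfLE le_top : U ⟶ ⊤).op).hom (baseHom g ⊤ a) := by
  rw [baseHom, baseHom]
  show _ = (((Scheme.ΓSpecIso (CommRingCat.of A)).inv ≫ g.appLE ⊤ ⊤ le_top) ≫ Y.presheaf.map _).hom a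
  rw [Category.assoc, Scheme.Hom.appLE_map]

/-- The algebra of the `n`-th level. -/
def Data.alg (n : ℕ) : QCAlg X := QCAlg.directImage (D.p n)

/-- The transition maps of algebras. -/
def Data.algMap (n : ℕ) : D.alg (n + 1) ⟶ D.alg n :=
  ⟨AffAlg.algHom (D.p (n + 1)) (D.p n) (D.t n) (D.ht n), AffAlg.algHom_comm _ _ _ _⟩

theorem algHom_app {Y Y' : Scheme.{u}} (g : Y' ⟶ X) (g' : Y ⟶ X) (h : Y ⟶ Y') (w : h ≫ g = g') (U : X.Opens) :
    (AffAlg.algHom g g' h w).app (op U) =
      h.appLE (g ⁻¹ᵁ U) (g' ⁻¹ᵁ U) (by subst w; exact le_rfl) := by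
  subst w
  simp only [AffAlg.algHom]
  rw [Scheme.Hom.appLE]
  simp

variable [X.Over (Spec (CommRingCat.of A))] (hf : X ↘ Spec (CommRingCat.of A) = f)

/-- The formal module `(p_n)_* O_{Y_n}`. -/
def Data.G : ℕᵒᵖ ⥤ X.Modules :=
  Functor.ofOpSequence (X := fun n => (D.alg n).toModule) fun n => QCAlg.Hom.toModuleMap (D.algMap n)

theorem Data.G_map (n : ℕ) : CohC3.sysMap D.G (Nat.le_succ n) = QCAlg.Hom.toModuleMap (D.algMap n) :=
  Functor.ofOpSequence_map_homOfLE_succ _ n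

theorem toModuleMap_app {B C : QCAlg X} (φ : B ⟶ C) (U : X.Opens) (s : Γ(B.toModule, U)) :
    (QCAlg.Hom.toModuleMap φ).app U s = (φ.hom.app (op U)).hom s := rfl

include hf in
theorem Data.str_baseApp (n : ℕ) (U : X.Opens) (a : A) :
    ((D.alg n).str.app (op U)).hom (CohC3.baseApp X U a) = baseHom (D.p n ≫ f) (D.p n ⁻¹ᵁ U) a := by
  rw [← baseHom_eq_baseApp, hf, baseHom_comp]
  rfl

include hf in
theorem Data.killed (n : ℕ) : Formal.KilledBy (I ^ (n + 1)) (D.G.obj (op n)) := by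
  intro a ha
  refine CohTwo.hom_ext_app fun U s => ?_
  show ((D.alg n).str.app (op U)).hom (CohC3.baseApp X U a) * _ = 0
  rw [D.str_baseApp hf, baseHom_res, D.baseHom_eq_zero ha, map_zero]
  exact zero_mul _

theorem Data.isCoh (n : ℕ) : Coh.IsCoh (D.G.obj (op n)) := by
  have hq := QCohMod.isQCoh_toModule (D.alg n)
  refine ⟨hq, ?_⟩
  show CohB1.IsFT (D.alg n).toModule
  refine (QCohMod.isFT_iff _).2 fun U hU => ?_
  have h1 : ((D.p n).app U).hom.Finite := IsFinite.finite_app (D.p n) U hU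
  exact h1

include hf in
theorem Data.isQuot_succ (n : ℕ) : CohC3.IsQuot (I ^ (n + 1)) (CohC3.sysMap D.G (Nat.le_succ n)) := by
  have hsec : ∀ U : X.Opens, IsAffineOpen U →
      Function.Surjective ((D.algMap n).hom.app (op U)).hom ∧
      RingHom.ker ((D.algMap n).hom.app (op U)).hom =
        (I ^ (n + 1)).map (baseHom (D.p (n + 1) ≫ f) (D.p (n + 1) ⁻¹ᵁ U)) := by
    intro U hU
    have h := sections_of_isPullback (D.t n) (D.p (n + 1) ≫ f) (I ^ (n + 1)) (D.q n) (D.cart n)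
      (hU.preimage (D.p (n + 1)))
    have e : ((D.algMap n).hom.app (op U)).hom =
        ((D.t n).appLE (D.p (n + 1) ⁻¹ᵁ U) (D.p n ⁻¹ᵁ U) (by
          rw [← Scheme.Hom.comp_preimage, D.ht n])).hom := congrArg CommRingCat.Hom.hom (algHom_app (D.p (n + 1)) (D.p n) (D.t n) (D.ht n) U)
    rw [e, Scheme.Hom.appLE, CommRingCat.hom_comp]
    haveI : IsIso ((D.Y n).presheaf.map (homOfLE (show D.p n ⁻¹ᵁ U ≤ D.t n ⁻¹ᵁ D.p (n + 1) ⁻¹ᵁ U by
        rw [← Scheme.Hom.comp_preimage, D.ht n])).op) := by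
      have heq : D.p n ⁻¹ᵁ U = D.t n ⁻¹ᵁ D.p (n + 1) ⁻¹ᵁ U := by rw [← Scheme.Hom.comp_preimage, D.ht n]
      rw [show (homOfLE heq.le) = eqToHom heq from Subsingleton.elim _ _]
      infer_instance
    have hb := ConcreteCategory.bijective_of_isIso ((D.Y n).presheaf.map
      (homOfLE (show D.p n ⁻¹ᵁ U ≤ D.t n ⁻¹ᵁ D.p (n + 1) ⁻¹ᵁ U by rw [← Scheme.Hom.comp_preimage, D.ht n])).op)
    refine ⟨hb.2.comp h.1, ?_⟩
    rw [RingHom.ker_comp_of_injective _ hb.1]
    exact h.2
  rw [D.G_map]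
  refine CohC3.isQuot_of_affine _ ?_ (fun U hU z => ?_) fun U hU x hx => ?_
  · refine CohC3.le_annHom_of_killedBy (D.killed hf n) _
  · obtain ⟨w, hw⟩ := (hsec U hU).1 z
    exact ⟨w, hw⟩
  · let B := D.alg (n + 1)
    let P : Submodule Γ(X, U) Γ(B.toModule, U) :=
      (I ^ (n + 1)).map (CohC3.baseApp X U) • (⊤ : Submodule Γ(X, U) Γ(B.toModule, U))
    let K : Ideal (QCohMod.BSec B U) :=
      { carrier := {z | QCohMod.ofB B z ∈ P}
        add_mem' := fun {u v} hu hv => P.add_mem hu hv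
        zero_mem' := P.zero_mem
        smul_mem' := fun c z hz => by
          refine Submodule.smul_induction_on (p := fun m => QCohMod.ofB B (c * QCohMod.toB B m) ∈ P) hz
            (fun r hr m _ => ?_) fun u v hu hv => ?_
          · convert Submodule.smul_mem_smul hr (Submodule.mem_top (x := QCohMod.ofB B (c * QCohMod.toB B m))) using 1
            exact mul_left_comm c _ _
          · convert P.add_mem hu hv using 1
            exact mul_add c _ _ }
    have hK : (I ^ (n + 1)).map (baseHom (D.p (n + 1) ≫ f) (D.p (n + 1) ⁻¹ᵁ U)) ≤ K := by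
      refine Ideal.map_le_iff_le_comap.mpr fun a ha => ?_
      show QCohMod.ofB B _ ∈ P
      convert Submodule.smul_mem_smul (Ideal.mem_map_of_mem (CohC3.baseApp X U) ha)
        (Submodule.mem_top (x := QCohMod.ofB B 1)) using 1
      show _ = QCohMod.bstr B U (CohC3.baseApp X U a) * 1
      rw [mul_one]
      exact (D.str_baseApp hf (n + 1) U a).symm
    exact hK ((hsec U hU).2.le hx)

include hf in
theorem Data.isCohFormal : Formal.IsCohFormal I D.G :=
  ⟨D.isCoh, D.killed hf, fun n => (D.isQuot_succ hf n).isIso_desc⟩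

theorem Data.support_subset (n : ℕ) : CohB1.support (D.G.obj (op n)) ⊆ Set.range (D.p n).base := by
  intro y hy
  by_contra hyT
  refine hy (subsingleton_of_forall_eq 0 fun t => ?_)
  obtain ⟨U, hU, s, rfl⟩ := QCohMod.exists_germ (D.G.obj (op n)) y t
  let V : X.Opens := U ⊓ ⟨(Set.range (D.p n).base)ᶜ, (D.p n).isClosedMap.isClosed_range.isOpen_compl⟩
  haveI : Subsingleton Γ(D.G.obj (op n), V) := by
    have hV : D.p n ⁻¹ᵁ V = ⊥ := TopologicalSpace.Opens.ext (Set.eq_empty_of_forall_notMem fun z hz => hz.2 ⟨z, rfl⟩)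
    show Subsingleton Γ(D.Y n, D.p n ⁻¹ᵁ V)
    rw [hV]
    exact CommRingCat.subsingleton_of_isTerminal (D.Y n).sheaf.isTerminalOfEmpty
  rw [← QCohMod.germ_res _ (inf_le_left : V ≤ U) y ⟨hU, hyT⟩ s,
    Subsingleton.elim (QCohMod.res _ (inf_le_left : V ≤ U) s) 0, map_zero]

end Groth.FormalAlg
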